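import Groth.Agent.L17.BC.CechA
import Groth.Agent.L17.BC.Model
import Groth.Agent.L17.Approx.Extend
import Groth.Agent.L16.EpiFrames
import Groth.Agent.L20.Strat.Stratification

/-!
# Vanishing of cohomology of quasi-coherent modules from the finite type ones
-/

universe u

open CategoryTheory CategoryTheory.Limits AlgebraicGeometry TopologicalSpace Opposite

noncomputable section

namespace Groth.L19.VanishFibre

open Groth.L17.BC
open Groth.L18.Frame (rs)

set_option linter.style.haveILetI false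
set_option backward.isDefEq.respectTransparency.types false
set_option backward.isDefEq.respectTransparency false

/-- The integers acting through global functions. -/
def zρ (X : Scheme.{u}) : ULift.{u} ℤ →+* Coh.Γtop X :=
  (Int.castRingHom (Coh.Γtop X)).comp (ULift.ringEquiv : ULift.{u} ℤ ≃+* ℤ).toRingHom

variable {X : Scheme.{u}} {ι : Type u} (U : ι → X.Opens)

theorem subsingleton_HH_succ_iff (F : X.Modules) [Coh.IsQCoh F] (hcov : ⨆ i, U i = ⊤)
    (haff : ∀ (n : ℕ) (a : Fin (n + 1) → ι), IsAffineOpen (⨅ k, U (a k))) (q : ℕ) :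
    Subsingleton (Coh.HH X F (q + 1)) ↔
      ∀ x : C (zρ X) F U ((q : ℤ) + 1), dL (zρ X) F U _ x = 0 →
        ∃ y, dL (zρ X) F U (q : ℤ) y = x := by
  obtain ⟨e⟩ := exists_homology_equiv (zρ X) F U hcov haff (q + 1)
  refine e.toEquiv.subsingleton_congr.symm.trans ?_
  rw [show ((q + 1 : ℕ) : ℤ) = (q : ℤ) + 1 by push_cast; ring]
  refine (ModuleCat.isZero_iff_subsingleton.symm.trans
    (Groth.L28.HomElt.isZero_homology_iff (i := (q : ℤ)) (k := (q : ℤ) + 1 + 1)
      (by simp) (by simp))).trans ?_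
  constructor
  · intro h x hx
    obtain ⟨y, hy⟩ := h x ((K_d _ F U _ x).trans hx)
    exact ⟨y, (K_d _ F U _ y).symm.trans hy⟩
  · intro h x hx
    obtain ⟨y, hy⟩ := h x ((K_d _ F U _ x).symm.trans hx)
    exact ⟨y, (K_d _ F U _ y).trans hy⟩

/-- Cochains of a map of modules. -/
def cMap {A : Type u} [CommRing A] (ρ : A →+* Coh.Γtop X) {F G : X.Modules} (i : F ⟶ G) {n : ℤ}
    (x : C ρ F U n) : C ρ G U n := fun a => i.app _ (x a)

theorem dL_cMap {A : Type u} [CommRing A] (ρ : A →+* Coh.Γtop X) {F G : X.Modules} (i : F ⟶ G) {n : ℤ}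
    (hn : 0 ≤ n) (x : C ρ F U n) : dL ρ G U n (cMap U ρ i x) = cMap U ρ i (dL ρ F U n x) := by
  funext a
  rw [dL_apply ρ G U hn]
  show _ = i.app _ _
  rw [dL_apply ρ F U hn, map_sum]
  refine Finset.sum_congr rfl fun k _ => ?_
  refine (congrArg (fun z => ((-1 : ℤ) ^ k.1) • z) ?_).trans (map_zsmul (i.app _).hom _ _).symm
  exact (Groth.L16.EpiFrames.app_rs i _ _).symm

/-- If finite type quasi-coherent modules have no cohomology in degree `p > 0`, no quasi-coherent one has. -/
theorem subsingleton_HH_of_forall_isCoh [CompactSpace X] [X.IsSeparated] {p : ℕ} (hp : 0 < p)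
    (h : ∀ F : X.Modules, Coh.IsCoh F → Subsingleton (Coh.HH X F p)) (G : X.Modules) [Coh.IsQCoh G] :
    Subsingleton (Coh.HH X G p) := by
  classical
  obtain ⟨q, rfl⟩ : ∃ q, p = q + 1 := ⟨p - 1, by omega⟩
  obtain ⟨t, U, hcov, haff⟩ := exists_affine_cover (X := X)
  haveI : QuasiSeparatedSpace X := inferInstance
  rw [subsingleton_HH_succ_iff U G hcov haff q]
  intro x hx
  haveI := finite_idx (ι := ULift.{u} (Fin t)) ((q : ℤ) + 1)
  haveI : Fintype (Idx (ULift.{u} (Fin t)) ((q : ℤ) + 1)) := Fintype.ofFinite _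
  obtain ⟨F, i, hi, hF, hmem⟩ := Groth.L17.Approx.exists_submodule_finset G
    (fun a : Idx (ULift.{u} (Fin t)) ((q : ℤ) + 1) => opn U a.1)
    (fun a => (isAffineOpen_opn U haff a).isCompact) (fun _ => PUnit.{u + 1})
    (fun a _ => (show Γ(G, opn U a.1) from x a)) Finset.univ
  haveI := hi
  haveI : Coh.IsQCoh F := hF.1
  choose x' hx' using fun a => hmem a (Finset.mem_univ a) PUnit.unit
  have hxe : cMap U (zρ X) i (x' : C (zρ X) F U ((q : ℤ) + 1)) = x := funext hx'
  have hd : dL (zρ X) F U ((q : ℤ) + 1) x' = 0 := funext fun a => by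
    refine Groth.L20.Strat.app_injective_of_mono i _ ?_
    refine (congrFun (dL_cMap U (zρ X) i (by omega) x').symm a).trans ?_
    rw [hxe, hx]
    exact (map_zero _).symm
  obtain ⟨y', hy'⟩ := (subsingleton_HH_succ_iff U F hcov haff q).1 (h F hF) x' hd
  exact ⟨cMap U _ i y', by rw [dL_cMap U _ i (Int.natCast_nonneg q), hy', hxe]⟩

end Groth.L19.VanishFibre
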