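import Groth.Agent.L19.VanishFibre.Supp
import Groth.Agent.L19.VanishFibre.QCoh
import Groth.Agent.L16.Rees.StalkFF
import Groth.Agent.L22.SchemeDim
import Groth.Agent.L17.ToAbRpush
import Groth.Agent.L21.Mod.Stalks

/-!
# Vanishing above the fibre dimension over a Noetherian base
-/

universe u

open CategoryTheory CategoryTheory.Limits AlgebraicGeometry TopologicalSpace Opposite

noncomputable section

namespace Groth.L19.VanishFibre

set_option linter.style.haveILetI false
set_option backward.isDefEq.respectTransparency.types false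
set_option backward.isDefEq.respectTransparency false

/-- A finite module over a Noetherian local ring with trivial completion is trivial. -/
theorem subsingleton_of_adicCompletion {R M : Type*} [CommRing R] [IsLocalRing R] [AddCommGroup M] [Module R M]
    [Module.Finite R M] (h : Subsingleton (AdicCompletion (IsLocalRing.maximalIdeal R) M)) : Subsingleton M := by
  have h1 : (⊤ : Submodule R M) ≤ (IsLocalRing.maximalIdeal R) • ⊤ := by
    intro x _
    have h2 : Submodule.Quotient.mk x =
        (0 : M ⧸ ((IsLocalRing.maximalIdeal R) ^ 1 • ⊤ : Submodule R M)) := by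
      obtain ⟨a, ha⟩ := AdicCompletion.eval_surjective (IsLocalRing.maximalIdeal R) M 1 (Submodule.Quotient.mk x)
      rw [← ha, Subsingleton.elim a 0, map_zero]
    simpa using (Submodule.Quotient.mk_eq_zero _).1 h2
  have h3 := Submodule.eq_bot_of_le_smul_of_le_jacobson_bot (IsLocalRing.maximalIdeal R) ⊤ Module.Finite.fg_top h1
    (IsLocalRing.maximalIdeal_le_jacobson _)
  exact subsingleton_of_forall_eq 0 fun x => (Submodule.mem_bot R).1 (h3 ▸ Submodule.mem_top)

variable {X Y : Scheme.{u}}

/-- Vanishing at a point above the dimension of its fibre, coherent modules. -/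
theorem subsingleton_stalk_Rpush (f : X ⟶ Y) [IsProper f] [IsLocallyNoetherian Y]
    [HasInjectiveResolutions X.Modules] (y : Y) {d : ℕ} (hd : topologicalKrullDim ↥(f.fiber y) ≤ d)
    (F : X.Modules) (hF : Coh.IsCoh F) {p : ℕ} (hp : d < p) :
    Subsingleton (((Coh.Rpush f p).obj F).presheaf.stalk y) := by
  let O := Y.presheaf.stalk y
  let X₁ := pullback f (Y.fromSpecStalk y)
  let g : X₁ ⟶ X := pullback.fst _ _
  letI : X₁.Over (Spec (CommRingCat.of O)) := ⟨pullback.snd f (Y.fromSpecStalk y)⟩
  let f₁ : X₁ ⟶ Spec (CommRingCat.of O) := X₁ ↘ Spec (CommRingCat.of O)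
  have hsq : IsPullback g f₁ f (Y.fromSpecStalk y) := IsPullback.of_hasPullback _ _
  obtain ⟨hfin, ⟨e⟩⟩ := Groth.L16.Rees.stalk_formal_functions f F hF y p g hsq
  haveI : IsProper f₁ := MorphismProperty.of_isPullback hsq inferInstance
  haveI : IsNoetherianRing O := inferInstance
  haveI : IsLocallyNoetherian X₁ := LocallyOfFiniteType.isLocallyNoetherian f₁
  haveI : CompactSpace X₁ := QuasiCompact.compactSpace_of_compactSpace f₁
  haveI : IsNoetherian X₁ := {}
  haveI : X₁.IsSeparated := ⟨by rw [← terminal.comp_from f₁]; infer_instance⟩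
  let c : Spec (CommRingCat.of O) := IsLocalRing.closedPoint O
  have hr : Set.range (f₁.fiberι c) = f₁ ⁻¹' (PrimeSpectrum.zeroLocus (IsLocalRing.maximalIdeal O : Set O)) := by
    rw [f₁.range_fiberι, PrimeSpectrum.zeroLocus_eq_singleton (IsLocalRing.maximalIdeal O)]
    rfl
  haveI : IsClosedImmersion (f₁.fiberι c) := IsClosedImmersion.of_isPreimmersion _ (by
    rw [hr]; exact (PrimeSpectrum.isClosed_zeroLocus _).preimage f₁.continuous)
  haveI : IsLocallyNoetherian (f₁.fiber c) := LocallyOfFiniteType.isLocallyNoetherian (f₁.fiberι c)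
  haveI : CompactSpace (f₁.fiber c) := QuasiCompact.compactSpace_of_compactSpace (f₁.fiberι c)
  haveI : IsNoetherian (f₁.fiber c) := {}
  haveI : IsPreimmersion g := MorphismProperty.of_isPullback hsq.flip inferInstance
  have hd₁ : topologicalKrullDim ↥(f₁.fiber c) ≤ d := by
    refine le_trans (le_of_eq ?_) hd
    have hrange : Set.range (g ∘ f₁.fiberι c) = f ⁻¹' {y} := by
      rw [Set.range_comp, f₁.range_fiberι]
      ext x
      constructor
      · rintro ⟨z, hz, rfl⟩
        show f (g z) = y
        rw [← Scheme.Hom.comp_apply, hsq.w, Scheme.Hom.comp_apply, show f₁ z = c from hz]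
        exact Y.fromSpecStalk_closedPoint
      · intro hx
        obtain ⟨z, hz1, hz2⟩ := Scheme.Pullback.exists_preimage_pullback x c
          ((show f x = y from hx).trans Y.fromSpecStalk_closedPoint.symm)
        exact ⟨z, hz2, hz1⟩
    rw [← Groth.L22.SchemeDim.topologicalKrullDim_eq_of_isEmbedding
        (g.isEmbedding.comp (f₁.fiberι c).isEmbedding) hrange,
      Groth.L22.SchemeDim.topologicalKrullDim_eq_of_isEmbedding (f.fiberι y).isEmbedding (f.range_fiberι y)]
  haveI : Coh.IsQCoh F := hF.1
  have hF₁ : Coh.IsCoh ((Scheme.Modules.pullback g).obj F) := Groth.L16.AffineBC.isCoh_pullback g hF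
  have hz : ∀ n, Subsingleton (Formal.HHmodPow (IsLocalRing.maximalIdeal O) ((Scheme.Modules.pullback g).obj F) p n) :=
    fun n => by
      haveI := (Groth.L16.HomSh.modPow_spec (IsLocalRing.maximalIdeal O) hF₁ (n + 1)).1.1
      refine subsingleton_HH_of_supp0 (f₁.fiberι c) hd₁ _ ?_ hp
      rw [hr]
      exact supp0_modPow _ _ _
  haveI : Subsingleton (Formal.HHlim (IsLocalRing.maximalIdeal O) ((Scheme.Modules.pullback g).obj F) p) :=
    ⟨fun a b => Subtype.ext (funext fun n => (hz n).elim _ _)⟩
  haveI := hfin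
  exact subsingleton_of_adicCompletion e.toEquiv.subsingleton

/-- Over an affine Noetherian base: no cohomology above the dimension of the fibres. -/
theorem subsingleton_HH_of_fibre_dim_le {R : CommRingCat.{u}} [IsNoetherianRing R] (f : X ⟶ Spec R) [IsProper f]
    {d : ℕ} (hd : ∀ y, topologicalKrullDim ↥(f.fiber y) ≤ d) (G : X.Modules) [Coh.IsQCoh G] {p : ℕ} (hp : d < p) :
    Subsingleton (Coh.HH X G p) := by
  haveI : CompactSpace X := QuasiCompact.compactSpace_of_compactSpace f
  haveI : X.IsSeparated := ⟨by rw [← terminal.comp_from f]; infer_instance⟩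
  haveI := Groth.L17.PushQCoh.hasInjectiveResolutions X
  refine subsingleton_HH_of_forall_isCoh (by omega) (fun F hF => ?_) G
  haveI : Coh.IsQCoh F := hF.1
  obtain ⟨e⟩ := Groth.L17.ProperCoh.nonempty_Γ_Rpush_equiv f F p
  have hz : IsZero ((Coh.Rpush f p).obj F) := by
    rw [Groth.L21.Mod.isZero_iff_support_eq_empty, Set.eq_empty_iff_forall_notMem]
    exact fun y hy => hy (subsingleton_stalk_Rpush f y (hd y) F hF hp)
  haveI := ModuleCat.subsingleton_of_isZero ((moduleSpecΓFunctor (R := R)).map_isZero hz)
  exact e.toEquiv.subsingleton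

end Groth.L19.VanishFibre
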