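import Groth.Agent.S2079
import Groth.Agent.L17.Approx.Model
import Groth.Agent.L23.FibreDimBC
import Groth.Agent.L07.FibreDimSemi
import Groth.Agent.L22.SchemeDim

/-!
# Noetherian models of a proper morphism with controlled fibre dimension at a point
-/

universe u

open CategoryTheory CategoryTheory.Limits AlgebraicGeometry TopologicalSpace

noncomputable section

namespace Groth.L19.VanishFibre

set_option linter.style.haveILetI false
set_option backward.isDefEq.respectTransparency.types false
set_option backward.isDefEq.respectTransparency false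

variable {S : Scheme.{u}}

/-- In a system of closed immersions some stage has the same fibre as the limit at a given point. -/
theorem exists_stage_fibre_subset {I : Type u} [SmallCategory I] [IsCofiltered I] (D : I ⥤ Over S)
    (c : Cone D) (hc : IsLimit c) (hD : ∀ (i j : I) (a : i ⟶ j), IsClosedImmersion (D.map a).left)
    (hlft : ∀ i, IsProper (D.obj i).hom) (y : S) :
    ∃ i, ∀ x : (D.obj i).left, (D.obj i).hom x = y → x ∈ Set.range (c.π.app i).left := by
  obtain ⟨i₀⟩ := IsCofiltered.nonempty (C := I)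
  let f₀ := (D.obj i₀).hom
  haveI := hlft i₀
  haveI : LocallyOfFiniteType (f₀.fiberToSpecResidueField y) :=
    MorphismProperty.pullback_snd f₀ (S.fromSpecResidueField y) inferInstance
  haveI : IsLocallyNoetherian (f₀.fiber y) :=
    LocallyOfFiniteType.isLocallyNoetherian (f₀.fiberToSpecResidueField y)
  haveI : CompactSpace (f₀.fiber y) := by
    haveI : QuasiCompact (f₀.fiberToSpecResidueField y) :=
      MorphismProperty.pullback_snd f₀ (S.fromSpecResidueField y) inferInstance
    exact QuasiCompact.compactSpace_of_compactSpace (f₀.fiberToSpecResidueField y)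
  haveI : IsNoetherian (f₀.fiber y) := {}
  let C : (Σ k : I, k ⟶ i₀) → Closeds (f₀.fiber y) := fun a =>
    ⟨f₀.fiberι y ⁻¹' Set.range (D.map a.2).left,
      (haveI := hD _ _ a.2; (D.map a.2).left.isClosedEmbedding.isClosed_range).preimage (f₀.fiberι y).continuous⟩
  obtain ⟨Cm, ⟨⟨i, a⟩, rfl⟩, hmin⟩ := wellFounded_lt.has_min (Set.range C) ⟨_, ⟨i₀, 𝟙 _⟩, rfl⟩
  refine ⟨i, fun x hx => ?_⟩
  have hall : ∀ (k : I) (b : k ⟶ i), x ∈ Set.range (D.map b).left := by
    intro k b
    have hle : C ⟨k, b ≫ a⟩ ≤ C ⟨i, a⟩ := by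
      rintro w ⟨z, hz⟩
      exact ⟨(D.map b).left z, by rw [← hz, D.map_comp, Over.comp_left]; rfl⟩
    have heq : C ⟨k, b ≫ a⟩ = C ⟨i, a⟩ := hle.antisymm (by
      by_contra h
      exact hmin _ ⟨_, rfl⟩ (lt_of_le_not_ge hle h))
    have hy : (D.map a).left x ∈ Set.range (f₀.fiberι y) := by
      rw [f₀.range_fiberι]
      show f₀ ((D.map a).left x) = y
      rw [← Scheme.Hom.comp_apply, Over.w (D.map a)]
      exact hx
    obtain ⟨w, hw⟩ := hy
    have : w ∈ C ⟨k, b ≫ a⟩ := heq ▸ (⟨x, hw.symm⟩ : w ∈ C ⟨i, a⟩)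
    obtain ⟨z, hz⟩ := this
    haveI := hD _ _ a
    refine ⟨z, (D.map a).left.isClosedEmbedding.injective ?_⟩
    exact (show (D.map a).left ((D.map b).left z) = (D.map (b ≫ a)).left z by
      rw [D.map_comp, Over.comp_left]; rfl).trans (hz.trans hw)
  let κ := Spec ((D.obj i).left.residueField x)
  let e : κ ⟶ (D.obj i).left := (D.obj i).left.fromSpecResidueField x
  have hlift : ∀ b : Over i, ∃ u : κ ⟶ (D.obj b.left).left, u ≫ (D.map b.hom).left = e := by
    intro b
    haveI := hD _ _ b.hom
    let q := pullback.snd (D.map b.hom).left e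
    haveI : IsClosedImmersion q := MorphismProperty.pullback_snd _ _ inferInstance
    haveI : Surjective q := ⟨fun w => by
      obtain ⟨z, hz⟩ := hall _ b.hom
      obtain ⟨p, -, hp⟩ := Scheme.Pullback.exists_preimage_pullback z w
        (show (D.map b.hom).left z = e w by rw [hz]; exact (Scheme.fromSpecResidueField_apply x w).symm)
      exact ⟨p, hp⟩⟩
    haveI : IsIso q := isIso_of_isClosedImmersion_of_surjective q
    exact ⟨inv q ≫ pullback.fst _ _, by rw [Category.assoc, pullback.condition, IsIso.inv_hom_id_assoc]⟩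
  choose u hu using hlift
  have hw : ∀ b : Over i, u b ≫ (D.obj b.left).hom = e ≫ (D.obj i).hom := fun b => by
    rw [← hu b, Category.assoc, Over.w]
  let s : Cone (Over.forget i ⋙ D) :=
    { pt := Over.mk (e ≫ (D.obj i).hom)
      π :=
        { app := fun b => Over.homMk (u b) (hw b)
          naturality := fun b b' φ => by
            ext1
            show 𝟙 κ ≫ u b' = u b ≫ (D.map φ.left).left
            haveI := hD _ _ b'.hom
            rw [← cancel_mono (D.map b'.hom).left, Category.id_comp, hu, Category.assoc, ← Over.comp_left,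
              ← D.map_comp, Over.w φ, hu] } }
  let hc' := (Functor.Initial.isLimitWhiskerEquiv (Over.forget i) c).symm hc
  have h := congrArg CommaMorphism.left (hc'.fac s (Over.mk (𝟙 i)))
  obtain ⟨w⟩ : Nonempty κ := inferInstance
  refine ⟨(hc'.lift s).left w, ?_⟩
  have he : u (Over.mk (𝟙 i)) = e := by
    haveI := hD _ _ (𝟙 i)
    refine (cancel_mono (D.map (𝟙 i)).left).1 ((hu (Over.mk (𝟙 i))).trans ?_)
    rw [D.map_id]
    exact (Category.comp_id e).symm
  refine Eq.trans (congrArg (fun m : κ ⟶ (D.obj i).left => m w) (h.trans he)) ?_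
  exact Scheme.fromSpecResidueField_apply x w

/-- A Noetherian model of a proper morphism whose fibre at a point has no larger dimension. -/
theorem exists_model {A : Type u} [CommRing A] {X : Scheme.{u}} (f : X ⟶ Spec (CommRingCat.of A)) [IsProper f]
    (y : Spec (CommRingCat.of A)) {d : ℕ} (hd : topologicalKrullDim ↥(f.fiber y) ≤ d) :
    ∃ (A₀ : Subalgebra ℤ A), A₀.FG ∧
      ∃ (X₀ : Scheme.{u}) (f₀ : X₀ ⟶ Spec (CommRingCat.of ↥A₀)) (a : X ⟶ X₀), IsProper f₀ ∧ IsAffineHom a ∧
        a ≫ f₀ = f ≫ Spec.map (CommRingCat.ofHom (algebraMap (↥A₀) A)) ∧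
        topologicalKrullDim ↥(f₀.fiber (Spec.map (CommRingCat.ofHom (algebraMap (↥A₀) A)) y)) ≤ d := by
  obtain ⟨I, _, _, D, c, hc, e, hD, hi⟩ := Groth.Agent.S2079.result f
  obtain ⟨i, hfib⟩ := exists_stage_fibre_subset D c hc hD (fun i => (hi i).2.1) y
  obtain ⟨hcl, hprop, hlfp⟩ := hi i
  let X' := (D.obj i).left
  let f' : X' ⟶ Spec (CommRingCat.of A) := (D.obj i).hom
  let b : X ⟶ X' := e.inv.left ≫ (c.π.app i).left
  have hb : b ≫ f' = f := by
    rw [Category.assoc, Over.w (c.π.app i)]
    exact Over.w e.inv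
  haveI : IsProper f' := hprop
  haveI : LocallyOfFinitePresentation f' := hlfp
  haveI : IsClosedImmersion b := by haveI := hcl; infer_instance
  obtain ⟨A₀, hA₀, X₀, f₀, g, hf₀, -, sq⟩ := Groth.L17.Approx.exists_proper_model (A := A) f'
  haveI := hf₀
  haveI : IsAffineHom g := MorphismProperty.of_isPullback (P := @IsAffineHom) sq.flip inferInstance
  refine ⟨A₀, hA₀, X₀, f₀, b ≫ g, hf₀, inferInstance, by rw [Category.assoc, sq.w, ← Category.assoc, hb], ?_⟩
  have hd' : topologicalKrullDim ↥(f'.fiber y) ≤ d := by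
    refine le_trans (le_of_eq ?_) hd
    have hrange : Set.range (b ∘ f.fiberι y) = f' ⁻¹' {y} := by
      rw [Set.range_comp, f.range_fiberι]
      ext x
      refine ⟨?_, fun hx => ?_⟩
      · rintro ⟨z, hz, rfl⟩
        show f' (b z) = y
        rw [← Scheme.Hom.comp_apply, hb]
        exact hz
      · obtain ⟨z, hz⟩ := hfib x hx
        let eh : c.pt.left ⟶ X := e.hom.left
        have hcb : eh ≫ b = (c.π.app i).left := by
          show e.hom.left ≫ e.inv.left ≫ _ = _
          rw [← Category.assoc, ← Over.comp_left, e.hom_inv_id, Over.id_left, Category.id_comp]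
        have hbz : b (eh z) = x :=
          ((Scheme.Hom.comp_apply eh b z).symm.trans (congrArg (fun m : c.pt.left ⟶ X' => m z) hcb)).trans hz
        refine ⟨eh z, ?_, hbz⟩
        show f (eh z) = y
        rw [← hb, Scheme.Hom.comp_apply, hbz]
        exact hx
    rw [← Groth.L22.SchemeDim.topologicalKrullDim_eq_of_isEmbedding
        (b.isEmbedding.comp (f.fiberι y).isEmbedding) hrange,
      Groth.L22.SchemeDim.topologicalKrullDim_eq_of_isEmbedding (f'.fiberι y).isEmbedding (f'.range_fiberι y)]
  rw [Groth.L07.FibreDim.fiber_dim_le_iff] at hd' ⊢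
  intro x₀ hx₀
  obtain ⟨x', hx', hx'y⟩ := Scheme.exists_preimage_of_isPullback sq x₀ y hx₀
  rw [← hx', ← Groth.L23.fibreDimAt_of_isPullback sq]
  exact hd' x' hx'y

end Groth.L19.VanishFibre
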