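import Groth.Agent.L19.VanishFibre.Noetherian
import Groth.Agent.L19.VanishFibre.Model
import Groth.Agent.L17.AffinePush
import Groth.Agent.L20.ModStalk
import Groth.Agent.L16.QcqsPush

/-!
# Vanishing of higher direct images above the dimension of a fibre
-/

universe u

open CategoryTheory CategoryTheory.Limits AlgebraicGeometry TopologicalSpace Opposite
open scoped TensorProduct

noncomputable section

namespace Groth.L19.VanishFibre

open Groth.L17.BC

set_option linter.style.haveILetI false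
set_option backward.isDefEq.respectTransparency.types false
set_option backward.isDefEq.respectTransparency false

/-- Near a point with fibre of dimension `≤ d` cohomology of quasi-coherent modules stops at `d`. -/
theorem exists_basicOpen_vanishing {A : Type u} [CommRing A] {X : Scheme.{u}} (f : X ⟶ Spec (CommRingCat.of A))
    [IsProper f] (y : Spec (CommRingCat.of A)) {d : ℕ} (hd : topologicalKrullDim ↥(f.fiber y) ≤ d) :
    ∃ g : A, y ∈ PrimeSpectrum.basicOpen g ∧ ∀ (X' : Scheme.{u}) (j : X' ⟶ X) [IsAffineHom j],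
      (∀ x, f (j x) ∈ PrimeSpectrum.basicOpen g) → ∀ (M : X'.Modules) [Coh.IsQCoh M] (i : ℕ), d < i →
        Subsingleton (Coh.HH X' M i) := by
  obtain ⟨A₀, hA₀, X₀, f₀, a, hf₀, ha, hw, hd₀⟩ := exists_model f y hd
  haveI : IsNoetherianRing A₀ := by
    haveI : Algebra.FiniteType ℤ A₀ := A₀.fg_iff_finiteType.mp hA₀
    exact Algebra.FiniteType.isNoetherianRing ℤ A₀
  let φ := Spec.map (CommRingCat.ofHom (algebraMap (↥A₀) A))
  obtain ⟨_, ⟨g₀, rfl⟩, hyg, hgU⟩ := PrimeSpectrum.isTopologicalBasis_basic_opens.exists_subset_of_mem_open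
    (show φ y ∈ {s : Spec (CommRingCat.of ↥A₀) | topologicalKrullDim ↥(f₀.fiber s) ≤ d} from hd₀)
    (Groth.L07.FibreDim.isOpen_fiber_dim_le f₀ f₀.isClosedMap _)
  refine ⟨algebraMap A₀ A g₀, hyg, fun X' j _ hj M _ i hi => ?_⟩
  let R := CommRingCat.of (Localization.Away g₀)
  haveI : IsNoetherianRing R := IsLocalization.isNoetherianRing (Submonoid.powers g₀) (Localization.Away g₀) ‹_›
  let ψ : Spec R ⟶ Spec (CommRingCat.of ↥A₀) := Spec.map (CommRingCat.ofHom (algebraMap A₀ (Localization.Away g₀)))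
  haveI : IsOpenImmersion ψ := IsOpenImmersion.of_isLocalization g₀
  have hψ : Set.range ψ = (PrimeSpectrum.basicOpen g₀ : Set (PrimeSpectrum A₀)) :=
    PrimeSpectrum.localization_away_comap_range (Localization.Away g₀) g₀
  let k := pullback.fst f₀ ψ
  let f₁ := pullback.snd f₀ ψ
  have hd₁ : ∀ z, topologicalKrullDim ↥(f₁.fiber z) ≤ d := fun z => by
    have h := hgU (hψ.le ⟨z, rfl⟩)
    change topologicalKrullDim ↥(f₀.fiber (ψ z)) ≤ d at h
    rw [Groth.L07.FibreDim.fiber_dim_le_iff] at h ⊢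
    intro x hx
    rw [Groth.L23.fibreDimAt_of_isPullback (IsPullback.of_hasPullback f₀ ψ)]
    refine h (k x) ?_
    rw [← hx, ← Scheme.Hom.comp_apply, pullback.condition, Scheme.Hom.comp_apply]
  have hr : Set.range (j ≫ a) ⊆ Set.range k := by
    rw [IsOpenImmersion.range_pullbackFst ψ f₀]
    rintro _ ⟨x, rfl⟩
    show f₀ ((j ≫ a) x) ∈ Set.range ψ
    rw [hψ, ← Scheme.Hom.comp_apply, Category.assoc, hw, Scheme.Hom.comp_apply, Scheme.Hom.comp_apply]
    exact hj x
  let a' := IsOpenImmersion.lift k (j ≫ a) hr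
  have ha' : a' ≫ k = j ≫ a := IsOpenImmersion.lift_fac _ _ _
  haveI : IsAffineHom (a' ≫ k) := by rw [ha']; infer_instance
  haveI : IsAffineHom a' := IsAffineHom.of_comp a' k
  haveI : Coh.IsQCoh ((Coh.push a').obj M) := Groth.L16.QcqsPush.isQCoh_push M a'
  obtain ⟨e⟩ := Groth.L17.nonempty_HH_push_of_isAffineHom a' M i
  haveI := subsingleton_HH_of_fibre_dim_le f₁ hd₁ ((Coh.push a').obj M) hi
  exact e.toEquiv.subsingleton

variable {X Y : Scheme.{u}}

/-- Vanishing of cohomology over an affine open containing `y` kills the stalk at `y`. -/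
theorem subsingleton_stalk_Rpush_of_affine (f : X ⟶ Y) [QuasiCompact f] [QuasiSeparated f]
    [HasInjectiveResolutions X.Modules] (M : X.Modules) [Coh.IsQCoh M] {V : Y.Opens} (hV : IsAffineOpen V)
    {y : Y} (hy : y ∈ V) (n : ℕ) (h : Subsingleton (Coh.HH (f ⁻¹ᵁ V).toScheme (FV f (V := V) M) n)) :
    Subsingleton (((Coh.Rpush f n).obj M).presheaf.stalk y) := by
  haveI := Groth.L17.PushQCoh.isQCoh_Rpush f M n
  haveI : Coh.IsQCoh (FV f (V := V) M) := Scheme.Modules.isQuasicoherent_restrictFunctor _ M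
  haveI : QuasiCompact (fV f hV) := inferInstanceAs (QuasiCompact ((f ∣_ V) ≫ hV.isoSpec.hom))
  haveI : QuasiSeparated (fV f hV) := inferInstanceAs (QuasiSeparated ((f ∣_ V) ≫ hV.isoSpec.hom))
  haveI := Groth.L17.PushQCoh.hasInjectiveResolutions (f ⁻¹ᵁ V : Scheme.{u})
  obtain ⟨i⟩ := Groth.L17.PushQCoh.nonempty_Rpush_restrict_iso f hV.fromSpec (f ⁻¹ᵁ V).ι (fV f hV)
    (by rw [hV.opensRange_fromSpec, Scheme.Opens.opensRange_ι]) (fV_fromSpec f hV) M n
  obtain ⟨N, eN, ⟨εN⟩⟩ := Classes.exists_chart ((Coh.Rpush f n).obj M) hV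
  obtain ⟨e''⟩ := Groth.L17.ProperCoh.nonempty_Γ_Rpush_equiv (fV f hV) (FV f (V := V) M) n
  let j : tilde N ≅ (Coh.Rpush (fV f hV) n).obj (FV f (V := V) M) := eN.symm ≪≫ i
  haveI : Subsingleton Γ((Coh.Rpush f n).obj M, V) :=
    εN.toEquiv.subsingleton_congr.1 ((tilde.toTildeΓNatIso.app N ≪≫
      (moduleSpecΓFunctor (R := Γ(Y, V))).mapIso j).toLinearEquiv.toEquiv.subsingleton_congr.2
        (e''.toEquiv.subsingleton_congr.1 h))
  letI := Groth.L20.ModStalk.stalkModule ((Coh.Rpush f n).obj M) hy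
  haveI := Groth.L20.ModStalk.isLocalizedModule_germ ((Coh.Rpush f n).obj M) hV hy
  refine subsingleton_of_forall_eq 0 fun z => ?_
  obtain ⟨⟨m, s⟩, hz⟩ := IsLocalizedModule.surj (hV.primeIdealOf ⟨y, hy⟩).asIdeal.primeCompl
    (Groth.L20.ModStalk.germₗ ((Coh.Rpush f n).obj M) hy) z
  rw [Subsingleton.elim m 0, map_zero] at hz
  have hu := IsLocalizedModule.map_units (Groth.L20.ModStalk.germₗ ((Coh.Rpush f n).obj M) hy) s
  exact ((Module.End.isUnit_iff _).1 hu).1 (hz.trans (map_zero _).symm)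

/-- A neighbourhood of `y` above which cohomology stops at `d`. -/
theorem exists_nhd_vanishing (f : X ⟶ Y) [IsProper f] (y : Y) {d : ℕ} (hd : topologicalKrullDim ↥(f.fiber y) ≤ d) :
    ∃ V : Y.Opens, y ∈ V ∧ IsAffineOpen V ∧ ∀ (X' : Scheme.{u}) (j : X' ⟶ (f ⁻¹ᵁ V).toScheme) [IsAffineHom j]
      (M : X'.Modules) [Coh.IsQCoh M] (i : ℕ), d < i → Subsingleton (Coh.HH X' M i) := by
  obtain ⟨_, ⟨V', hV', rfl⟩, hyV, -⟩ :=
    Y.isBasis_affineOpens.exists_subset_of_mem_open (Set.mem_univ y) isOpen_univ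
  replace hV' : IsAffineOpen V' := hV'
  let y' : Spec Γ(Y, V') := hV'.primeIdealOf ⟨y, hyV⟩
  have hy' : hV'.fromSpec y' = y := hV'.fromSpec_primeIdealOf ⟨y, hyV⟩
  let f' : (f ⁻¹ᵁ V').toScheme ⟶ Spec Γ(Y, V') := fV f hV'
  have hd' : topologicalKrullDim ↥(f'.fiber y') ≤ d := by
    refine le_trans (le_of_eq ?_) hd
    have hrange : Set.range ((f ⁻¹ᵁ V').ι ∘ f'.fiberι y') = f ⁻¹' {y} := by
      rw [Set.range_comp, f'.range_fiberι]
      ext x
      refine ⟨?_, fun hx => ?_⟩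
      · rintro ⟨z, hz, rfl⟩
        show f ((f ⁻¹ᵁ V').ι z) = y
        rw [← Scheme.Hom.comp_apply, ← fV_fromSpec f hV', Scheme.Hom.comp_apply, show fV f hV' z = y' from hz, hy']
      · obtain ⟨z, rfl⟩ : x ∈ Set.range (f ⁻¹ᵁ V').ι := by
          rw [Scheme.Opens.range_ι]
          show f x ∈ V'
          rw [show f x = y from hx]; exact hyV
        refine ⟨z, hV'.fromSpec.isOpenEmbedding.injective ?_, rfl⟩
        rw [← Scheme.Hom.comp_apply, fV_fromSpec f hV', Scheme.Hom.comp_apply, hy']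
        exact hx
    rw [← Groth.L22.SchemeDim.topologicalKrullDim_eq_of_isEmbedding
        ((f ⁻¹ᵁ V').ι.isEmbedding.comp (f'.fiberι y').isEmbedding) hrange,
      Groth.L22.SchemeDim.topologicalKrullDim_eq_of_isEmbedding (f.fiberι y).isEmbedding (f.range_fiberι y)]
  obtain ⟨g, hyg, hg⟩ := exists_basicOpen_vanishing (A := Γ(Y, V')) f' y' hd'
  let D := hV'.fromSpec ''ᵁ PrimeSpectrum.basicOpen g
  have hDg : D = Y.basicOpen g := hV'.fromSpec_image_basicOpen g
  refine ⟨Y.basicOpen g, hDg ▸ ⟨y', hyg, hy'⟩, hV'.basicOpen g, fun X' j _ M _ i hi => ?_⟩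
  let q : (f ⁻¹ᵁ Y.basicOpen g).toScheme ⟶ (f ⁻¹ᵁ V').toScheme :=
    X.homOfLE (Scheme.Hom.preimage_mono f (Y.basicOpen_le g))
  haveI : IsAffineHom q := by
    let r := Coh.toGlobal f' g
    have hr : Set.range q = Set.range ((f ⁻¹ᵁ V').toScheme.basicOpen r).ι := by
      have hb : (f ⁻¹ᵁ V').toScheme.basicOpen r = f' ⁻¹ᵁ PrimeSpectrum.basicOpen g := by
        show (f ⁻¹ᵁ V').toScheme.basicOpen (f'.appTop ((Scheme.ΓSpecIso Γ(Y, V')).inv g)) = _
        rw [← Scheme.preimage_basicOpen_top, basicOpen_eq_of_affine', Iso.inv_hom_id_apply]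
      rw [Scheme.Opens.range_ι, hb]
      ext z
      have hz : hV'.fromSpec (f' z) = f ((f ⁻¹ᵁ V').ι z) := by
        rw [← Scheme.Hom.comp_apply, fV_fromSpec f hV', Scheme.Hom.comp_apply]
      constructor
      · rintro ⟨w, rfl⟩
        have h1 : hV'.fromSpec (f' (q w)) ∈ Y.basicOpen g := by
          rw [hz, ← Scheme.Hom.comp_apply q, Scheme.homOfLE_ι]
          exact w.2
        exact hV'.fromSpec.isOpenEmbedding.injective.mem_set_image.1 (hDg.ge h1)
      · intro hw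
        have h1 : f ((f ⁻¹ᵁ V').ι z) ∈ Y.basicOpen g := hz ▸ hDg.le ⟨f' z, hw, rfl⟩
        refine ⟨⟨(f ⁻¹ᵁ V').ι z, h1⟩, (f ⁻¹ᵁ V').ι.isOpenEmbedding.injective ?_⟩
        rw [← Scheme.Hom.comp_apply, Scheme.homOfLE_ι]
        rfl
    rw [← IsOpenImmersion.isoOfRangeEq_hom_fac q _ hr]
    infer_instance
  refine hg X' (j ≫ q) (fun x => ?_) M i hi
  have h1 : hV'.fromSpec (f' ((j ≫ q) x)) ∈ Y.basicOpen g := by
    rw [← Scheme.Hom.comp_apply f', fV_fromSpec f hV', Scheme.Hom.comp_apply, ← Scheme.Hom.comp_apply (j ≫ q),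
      Category.assoc, Scheme.homOfLE_ι, Scheme.Hom.comp_apply]
    exact (j x).2
  exact hV'.fromSpec.isOpenEmbedding.injective.mem_set_image.1 (hDg.ge h1)

end Groth.L19.VanishFibre
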