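import Groth.Agent.L19.VanishFibre.Model
import Groth.Agent.L17.BC.Change
import Groth.Agent.L17.BC.Fibre

/-!
# A Noetherian model of a proper morphism all whose fibres have dimension `≤ d`
-/

universe u

open CategoryTheory CategoryTheory.Limits AlgebraicGeometry TopologicalSpace
open scoped TensorProduct

noncomputable section

namespace Groth.L19.VanishFibre

set_option linter.style.haveILetI false
set_option backward.isDefEq.respectTransparency.types false
set_option backward.isDefEq.respectTransparency false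

/-- Fibres of the restriction over an affine open. -/
theorem dim_fiber_fV {X Y : Scheme.{u}} (f : X ⟶ Y) {V : Y.Opens} (hV : IsAffineOpen V) (y' : Spec Γ(Y, V)) :
    topologicalKrullDim ↥((Groth.L17.BC.fV f hV).fiber y') = topologicalKrullDim ↥(f.fiber (hV.fromSpec y')) := by
  let f' := Groth.L17.BC.fV f hV
  have hrange : Set.range ((f ⁻¹ᵁ V).ι ∘ f'.fiberι y') = f ⁻¹' {hV.fromSpec y'} := by
    rw [Set.range_comp, f'.range_fiberι]
    ext x
    refine ⟨?_, fun hx => ?_⟩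
    · rintro ⟨z, hz, rfl⟩
      show f ((f ⁻¹ᵁ V).ι z) = hV.fromSpec y'
      rw [← Scheme.Hom.comp_apply, ← Groth.L17.BC.fV_fromSpec f hV, Scheme.Hom.comp_apply,
        show Groth.L17.BC.fV f hV z = y' from hz]
    · obtain ⟨z, rfl⟩ : x ∈ Set.range (f ⁻¹ᵁ V).ι := by
        rw [Scheme.Opens.range_ι]
        show f x ∈ V
        rw [show f x = hV.fromSpec y' from hx]
        exact hV.range_fromSpec.le ⟨y', rfl⟩
      refine ⟨z, hV.fromSpec.isOpenEmbedding.injective ?_, rfl⟩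
      rw [← Scheme.Hom.comp_apply, Groth.L17.BC.fV_fromSpec f hV, Scheme.Hom.comp_apply]
      exact hx
  rw [← Groth.L22.SchemeDim.topologicalKrullDim_eq_of_isEmbedding
      ((f ⁻¹ᵁ V).ι.isEmbedding.comp (f'.fiberι y').isEmbedding) hrange,
    Groth.L22.SchemeDim.topologicalKrullDim_eq_of_isEmbedding (f.fiberι _).isEmbedding (f.range_fiberι _)]

/-- In a system of closed immersions a stage with small fibres everywhere. -/
theorem exists_stage_fibres_le {S : Scheme.{u}} [CompactSpace S] {I : Type u} [SmallCategory I] [IsCofiltered I]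
    (D : I ⥤ Over S) (c : Cone D) (hc : IsLimit c) (hD : ∀ (i j : I) (a : i ⟶ j), IsClosedImmersion (D.map a).left)
    (hi : ∀ i, IsClosedImmersion (c.π.app i).left ∧ IsProper (D.obj i).hom) {d : ℕ}
    (hd : ∀ y, topologicalKrullDim ↥(c.pt.hom.fiber y) ≤ d) :
    ∃ i, ∀ y, topologicalKrullDim ↥((D.obj i).hom.fiber y) ≤ d := by
  have h1 : ∀ y, ∃ i, topologicalKrullDim ↥((D.obj i).hom.fiber y) ≤ d := fun y => by
    obtain ⟨i, hfib⟩ := exists_stage_fibre_subset D c hc hD (fun i => (hi i).2) y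
    refine ⟨i, le_trans (le_of_eq ?_) (hd y)⟩
    let b := (c.π.app i).left
    haveI : IsClosedImmersion b := (hi i).1
    have hb : b ≫ (D.obj i).hom = c.pt.hom := Over.w (c.π.app i)
    have hrange : Set.range (b ∘ c.pt.hom.fiberι y) = (D.obj i).hom ⁻¹' {y} := by
      rw [Set.range_comp, c.pt.hom.range_fiberι]
      ext x
      refine ⟨?_, fun hx => ?_⟩
      · rintro ⟨z, hz, rfl⟩
        show (D.obj i).hom (b z) = y
        rw [← Scheme.Hom.comp_apply, hb]
        exact hz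
      · obtain ⟨z, hz⟩ := hfib x hx
        refine ⟨z, ?_, hz⟩
        show c.pt.hom z = y
        rw [← hb]
        show (D.obj i).hom (b z) = y
        exact (congrArg (D.obj i).hom hz).trans hx
    rw [← Groth.L22.SchemeDim.topologicalKrullDim_eq_of_isEmbedding
        (b.isEmbedding.comp (c.pt.hom.fiberι y).isEmbedding) hrange,
      Groth.L22.SchemeDim.topologicalKrullDim_eq_of_isEmbedding ((D.obj i).hom.fiberι y).isEmbedding
        ((D.obj i).hom.range_fiberι y)]
  choose i hiy using h1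
  let U : S → Set S := fun y => {s | topologicalKrullDim ↥((D.obj (i y)).hom.fiber s) ≤ d}
  have hU : ∀ y, IsOpen (U y) := fun y => by
    haveI := (hi (i y)).2
    exact Groth.L07.FibreDim.isOpen_fiber_dim_le _ (D.obj (i y)).hom.isClosedMap _
  obtain ⟨s, hs⟩ := isCompact_univ.elim_finite_subcover U hU fun y _ => Set.mem_iUnion.2 ⟨y, hiy y⟩
  classical
  obtain ⟨k, hk⟩ := IsCofiltered.inf_objs_exists (s.image i)
  refine ⟨k, fun y => ?_⟩
  obtain ⟨z, hz, hyz⟩ := Set.mem_iUnion₂.1 (hs (Set.mem_univ y))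
  obtain ⟨g⟩ := hk (Finset.mem_image_of_mem i hz)
  haveI := hD _ _ g
  rw [← Groth.L22.SchemeDim.topologicalKrullDim_eq_of_isEmbedding
    ((D.map g).left.isEmbedding.comp ((D.obj k).hom.fiberι y).isEmbedding) rfl]
  refine le_trans (Groth.L22.SchemeDim.topologicalKrullDim_mono (T := (D.obj (i z)).hom ⁻¹' {y}) ?_) ?_
  · rintro _ ⟨w, rfl⟩
    show (D.obj (i z)).hom ((D.map g).left ((D.obj k).hom.fiberι y w)) = y
    rw [← Scheme.Hom.comp_apply _ (D.obj (i z)).hom, Over.w (D.map g)]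
    exact ((D.obj k).hom.range_fiberι y).le ⟨w, rfl⟩
  · rw [Groth.L22.SchemeDim.topologicalKrullDim_eq_of_isEmbedding
      ((D.obj (i z)).hom.fiberι y).isEmbedding ((D.obj (i z)).hom.range_fiberι y)]
    exact hyz

/-- A Noetherian model with all fibres small, along an affine morphism with generating functions. -/
theorem exists_global_model {A : Type u} [CommRing A] {X : Scheme.{u}} (f : X ⟶ Spec (CommRingCat.of A))
    [IsProper f] {d : ℕ} (hd : ∀ y, topologicalKrullDim ↥(f.fiber y) ≤ d) :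
    ∃ (A₀ : Subalgebra ℤ A), A₀.FG ∧
      ∃ (X₀ : Scheme.{u}) (f₀ : X₀ ⟶ Spec (CommRingCat.of ↥A₀)) (a : X ⟶ X₀), IsProper f₀ ∧ IsAffineHom a ∧
        a ≫ f₀ = f ≫ Spec.map (CommRingCat.ofHom (algebraMap (↥A₀) A)) ∧
        (∀ z, topologicalKrullDim ↥(f₀.fiber z) ≤ d) ∧
        ∀ W : X₀.Opens, IsAffineOpen W → ∀ z : Γ(X, a ⁻¹ᵁ W), z ∈ Subring.closure
          (Set.range (Groth.L17.BC.act (Coh.toGlobal f) (a ⁻¹ᵁ W)) ∪ Set.range (a.app W)) := by
  classical
  obtain ⟨I, _, _, D, c, hc, e, hD, hi⟩ := Groth.Agent.S2079.result f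
  have he : e.hom.left ≫ f = c.pt.hom := Over.w e.hom
  obtain ⟨i, hfib⟩ := exists_stage_fibres_le D c hc hD (fun i => ⟨(hi i).1, (hi i).2.1⟩) (d := d) fun y => by
    refine le_trans (le_of_eq ?_) (hd y)
    have hrange : Set.range (e.hom.left ∘ c.pt.hom.fiberι y) = f ⁻¹' {y} := by
      rw [Set.range_comp, c.pt.hom.range_fiberι, ← he]
      ext x
      refine ⟨?_, fun hx => ⟨e.inv.left x, ?_, ?_⟩⟩
      · rintro ⟨z, hz, rfl⟩
        exact hz
      · show f (e.hom.left (e.inv.left x)) = y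
        rw [← Scheme.Hom.comp_apply, ← Over.comp_left, e.inv_hom_id]
        exact hx
      · rw [← Scheme.Hom.comp_apply, ← Over.comp_left, e.inv_hom_id]
        rfl
    haveI : IsIso e.hom.left := inferInstanceAs (IsIso ((Over.forget _).map e.hom))
    rw [← Groth.L22.SchemeDim.topologicalKrullDim_eq_of_isEmbedding
        (e.hom.left.isEmbedding.comp (c.pt.hom.fiberι y).isEmbedding) hrange,
      Groth.L22.SchemeDim.topologicalKrullDim_eq_of_isEmbedding (f.fiberι y).isEmbedding (f.range_fiberι y)]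
  obtain ⟨hcl, hprop, hlfp⟩ := hi i
  let X' := (D.obj i).left
  let f' : X' ⟶ Spec (CommRingCat.of A) := (D.obj i).hom
  let b : X ⟶ X' := e.inv.left ≫ (c.π.app i).left
  have hb : b ≫ f' = f := by
    rw [Category.assoc, Over.w (c.π.app i)]
    exact Over.w e.inv
  haveI : IsProper f' := hprop
  haveI : LocallyOfFinitePresentation f' := hlfp
  haveI : IsClosedImmersion b := by haveI := hcl; infer_instance
  obtain ⟨A₀, hA₀, X₀, f₀, g, hf₀, hf₀', sq⟩ := Groth.L17.Approx.exists_proper_model (A := A) f'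
  haveI := hf₀; haveI := hf₀'
  let φ₀ := Spec.map (CommRingCat.ofHom (algebraMap (↥A₀) A))
  have hU₀ : ∀ y, topologicalKrullDim ↥(f₀.fiber (φ₀ y)) ≤ d := fun y => by
    have h := hfib y
    rw [Groth.L07.FibreDim.fiber_dim_le_iff] at h ⊢
    intro x₀ hx₀
    obtain ⟨x', hx', hx'y⟩ := Scheme.exists_preimage_of_isPullback sq x₀ y hx₀
    rw [← hx', ← Groth.L23.fibreDimAt_of_isPullback sq]
    exact h x' hx'y
  have hex : ∀ y, ∃ g₀ : A₀, φ₀ y ∈ PrimeSpectrum.basicOpen g₀ ∧
      ∀ s ∈ (PrimeSpectrum.basicOpen g₀ : Set (PrimeSpectrum A₀)), topologicalKrullDim ↥(f₀.fiber s) ≤ d := fun y => by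
    obtain ⟨_, ⟨g₀, rfl⟩, hyg, hgU⟩ := PrimeSpectrum.isTopologicalBasis_basic_opens.exists_subset_of_mem_open
      (show φ₀ y ∈ {s : Spec (CommRingCat.of ↥A₀) | topologicalKrullDim ↥(f₀.fiber s) ≤ d} from hU₀ y)
      (Groth.L07.FibreDim.isOpen_fiber_dim_le f₀ f₀.isClosedMap _)
    exact ⟨g₀, hyg, hgU⟩
  choose g₀ hyg hg₀ using hex
  have hspan : Ideal.span (Set.range fun y => algebraMap A₀ A (g₀ y)) = ⊤ := by
    by_contra h
    obtain ⟨m, hm, hle⟩ := Ideal.exists_le_maximal _ h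
    exact hyg ⟨m, hm.isPrime⟩ (hle (Ideal.subset_span ⟨_, rfl⟩))
  obtain ⟨cf, hcf⟩ := Finsupp.mem_span_range_iff_exists_finsupp.1
    ((Ideal.eq_top_iff_one _).1 hspan)
  let A₁ : Subalgebra ℤ A := A₀ ⊔ Algebra.adjoin ℤ (↑(cf.support.image cf) : Set A)
  have hle : A₀ ≤ A₁ := le_sup_left
  obtain ⟨X₁, f₁, g₁, h, hf₁, -, sq₁, sqh, hgh⟩ := Groth.L17.Approx.exists_stage hle f' f₀ g sq
  haveI := hf₁
  haveI : IsAffineHom g₁ := MorphismProperty.of_isPullback (P := @IsAffineHom) sq₁.flip inferInstance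
  refine ⟨A₁, hA₀.sup (Subalgebra.fg_adjoin_finset _), X₁, f₁, b ≫ g₁, hf₁, inferInstance,
    by rw [Category.assoc, sq₁.w, ← Category.assoc, hb], fun z => ?_, fun W hW => ?_⟩
  · let ψ := Spec.map (CommRingCat.ofHom (Subalgebra.inclusion hle).toRingHom)
    have hz : ∃ y, ψ z ∈ PrimeSpectrum.basicOpen (g₀ y) := by
      by_contra h'
      push Not at h'
      have h1 : ∀ y, Subalgebra.inclusion hle (g₀ y) ∈ z.asIdeal := fun y => by
        by_contra h''
        exact h' y h''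
      have hmem : ∀ y ∈ cf.support, cf y ∈ A₁ := fun y hy =>
        (le_sup_right : _ ≤ A₁) (Algebra.subset_adjoin (Finset.mem_image_of_mem cf hy))
      have h2 : (∑ y ∈ cf.support.attach, (⟨cf y.1, hmem y.1 y.2⟩ : A₁) * Subalgebra.inclusion hle (g₀ y.1)) = 1 := by
        apply Subtype.ext
        rw [AddSubmonoidClass.coe_finsetSum]
        refine Eq.trans ?_ hcf
        rw [Finsupp.sum, ← Finset.sum_attach cf.support]
        rfl
      exact z.isPrime.ne_top ((Ideal.eq_top_iff_one _).2 (h2 ▸ Ideal.sum_mem _ fun y _ =>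
        Ideal.mul_mem_left _ _ (h1 y.1)))
    obtain ⟨y, hy⟩ := hz
    have hd₀ := hg₀ y _ hy
    rw [Groth.L07.FibreDim.fiber_dim_le_iff] at hd₀ ⊢
    intro x hx
    rw [Groth.L23.fibreDimAt_of_isPullback sqh]
    refine hd₀ (h x) ?_
    rw [← Scheme.Hom.comp_apply, sqh.w, Scheme.Hom.comp_apply, hx]
  · intro z
    obtain ⟨z', rfl⟩ := b.app_surjective _ (hW.preimage g₁) z
    have hpo := Groth.L17.BC.isPushout_sections f₁ f' g₁ sq₁ hW
    let T : Subring Γ(X', g₁ ⁻¹ᵁ W) := Subring.closure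
      (Set.range (Groth.L17.BC.act (Coh.toGlobal f') (g₁ ⁻¹ᵁ W)) ∪ Set.range (g₁.app W))
    have hT : z' ∈ T := by
      letI : Algebra ↥A₁ Γ(X₁, W) := (Groth.L17.BC.act (Coh.toGlobal f₁) W).toAlgebra
      let ι' := (CommRingCat.isPushout_tensorProduct ↥A₁ A Γ(X₁, W)).isoIsPushout _ _ hpo.flip
      obtain ⟨t, rfl⟩ : ∃ t, ι'.hom t = z' := ⟨ι'.inv z', by rw [Iso.inv_hom_id_apply]⟩
      induction t using TensorProduct.induction_on with
      | zero => rw [map_zero]; exact zero_mem _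
      | add p q hp hq => rw [map_add]; exact add_mem hp hq
      | tmul p q =>
        rw [show (p ⊗ₜ[↥A₁] q : A ⊗[↥A₁] Γ(X₁, W)) = (p ⊗ₜ 1) * (1 ⊗ₜ q) by simp, map_mul]
        refine mul_mem (Subring.subset_closure (Or.inl ⟨p, ?_⟩)) (Subring.subset_closure (Or.inr ⟨q, ?_⟩))
        · exact (ConcreteCategory.congr_hom
            ((CommRingCat.isPushout_tensorProduct ↥A₁ A Γ(X₁, W)).inl_isoIsPushout_hom _ _ hpo.flip) p).symm
        · exact (ConcreteCategory.congr_hom
            ((CommRingCat.isPushout_tensorProduct ↥A₁ A Γ(X₁, W)).inr_isoIsPushout_hom _ _ hpo.flip) q).symm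
    have hle' : T ≤ (Subring.closure
        (Set.range (Groth.L17.BC.act (Coh.toGlobal f) ((b ≫ g₁) ⁻¹ᵁ W)) ∪ Set.range ((b ≫ g₁).app W))).comap
          (b.app (g₁ ⁻¹ᵁ W)).hom := by
      refine Subring.closure_le.2 ?_
      rintro _ (⟨r, rfl⟩ | ⟨r, rfl⟩)
      · refine Subring.subset_closure (Or.inl ⟨r, ?_⟩)
        have hn := congr($(b.naturality (homOfLE (le_top : g₁ ⁻¹ᵁ W ≤ ⊤)).op) (Coh.toGlobal f' r))
        refine Eq.trans ?_ hn.symm
        show _ = X.presheaf.map _ (b.appTop (f'.appTop ((Scheme.ΓSpecIso (CommRingCat.of A)).inv r)))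
        rw [← ConcreteCategory.comp_apply f'.appTop, ← Scheme.Hom.comp_appTop, hb]
        rfl
      · refine Subring.subset_closure (Or.inr ⟨r, ?_⟩)
        rw [Scheme.Hom.comp_app]
        rfl
    exact hle' hT

end Groth.L19.VanishFibre
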