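import Groth.Agent.L19.VanishFibre.TopGen
import Groth.Agent.L19.VanishFibre.TopModel
import Groth.Agent.L19.VanishFibre.Noetherian
import Groth.Agent.L16.ProperFinite
import Groth.Agent.L20.ModStalk

/-!
# Finiteness of the top cohomology of a proper morphism with small fibres
-/

universe u

open CategoryTheory CategoryTheory.Limits AlgebraicGeometry TopologicalSpace Opposite

noncomputable section

namespace Groth.L19.VanishFibre

open Groth.L17.BC
open Groth.L18.Frame (rs ro)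

set_option linter.style.haveILetI false
set_option backward.isDefEq.respectTransparency.types false
set_option backward.isDefEq.respectTransparency false

theorem compat_of_w {R A : Type u} [CommRing R] [CommRing A] (φ : R →+* A) {X X₀ : Scheme.{u}}
    (f : X ⟶ Spec (CommRingCat.of A)) (f₀ : X₀ ⟶ Spec (CommRingCat.of R)) (a : X ⟶ X₀)
    (hw : a ≫ f₀ = f ≫ Spec.map (CommRingCat.ofHom φ)) (r : R) :
    a.appTop (Coh.toGlobal f₀ r) = Coh.toGlobal f (φ r) := by
  show (f₀.appTop ≫ a.appTop) ((Scheme.ΓSpecIso (CommRingCat.of R)).inv r) =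
    f.appTop ((CommRingCat.ofHom φ ≫ (Scheme.ΓSpecIso (CommRingCat.of A)).inv) r)
  rw [← Scheme.Hom.comp_appTop, hw, Scheme.Hom.comp_appTop, Scheme.ΓSpecIso_inv_naturality]
  rfl

/-- A cycle decomposed up to boundaries. -/
theorem mem_span_of_decomp {A : Type u} [CommRing A] {K : CochainComplex (ModuleCat.{u} A) ℤ} {p j : ℤ}
    (hp : (ComplexShape.up ℤ).prev j = p) {ι κ : Type*} [Fintype ι] [Fintype κ] (Z : ι → K.cycles j)
    (cyc : K.cycles j) (c : κ → A) (r : κ → ι → A) (w : κ → K.X j) (v : κ → K.X p)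
    (hx : K.iCycles j cyc = ∑ k, c k • w k) (hw : ∀ k, w k = K.d p j (v k) + ∑ l, r k l • K.iCycles j (Z l)) :
    K.homologyπ j cyc ∈ Submodule.span A (Set.range fun l => K.homologyπ j (Z l)) := by
  have h0 := (Groth.L28.HomElt.π_eq_zero_iff hp (cyc - ∑ k, c k • ∑ l, r k l • Z l)).2 ⟨∑ k, c k • v k, by
    simp only [map_sub, map_sum, map_smul, hx, hw, smul_add, Finset.sum_add_distrib, add_sub_cancel_right]⟩
  rw [map_sub, sub_eq_zero] at h0
  rw [h0]
  simp only [map_sum, map_smul]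
  exact Submodule.sum_mem _ fun k _ => Submodule.smul_mem _ _ (Submodule.sum_mem _ fun l _ =>
    Submodule.smul_mem _ _ (Submodule.subset_span ⟨l, rfl⟩))

/-- Sections of a direct image are spanned over the base by a submodule containing module generators. -/
theorem mem_span_of_generators {A : Type u} [CommRing A] {X X₀ : Scheme.{u}} (a : X ⟶ X₀)
    (ρ : A →+* Coh.Γtop X) (W : X₀.Opens)
    (hgen : ∀ z : Γ(X, a ⁻¹ᵁ W), z ∈ Subring.closure (Set.range (act ρ (a ⁻¹ᵁ W)) ∪ Set.range (a.app W)))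
    {M : X.Modules} {G₀ : X₀.Modules} (i : G₀ ⟶ (Coh.push a).obj M)
    (hi : Submodule.span Γ(X, a ⁻¹ᵁ W)
      (Set.range fun s : Γ(G₀, W) => (show Γ(M, a ⁻¹ᵁ W) from i.app W s)) = ⊤)
    (z : Sec ρ M (a ⁻¹ᵁ W)) :
    z ∈ Submodule.span A (Set.range fun s : Γ(G₀, W) => (show Sec ρ M _ from i.app W s)) := by
  let S := Submodule.span A (Set.range fun s : Γ(G₀, W) => (show Sec ρ M (a ⁻¹ᵁ W) from i.app W s))
  have hstab : ∀ (r : Γ(X, a ⁻¹ᵁ W)) (v : Sec ρ M (a ⁻¹ᵁ W)), v ∈ S →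
      (show Sec ρ M (a ⁻¹ᵁ W) from r • (show Γ(M, a ⁻¹ᵁ W) from v)) ∈ S := by
    intro r
    induction hgen r using Subring.closure_induction with
    | mem r hr =>
      rcases hr with ⟨c, rfl⟩ | ⟨w, rfl⟩
      · exact fun v hv => S.smul_mem c hv
      · intro v hv
        induction hv using Submodule.span_induction with
        | mem v hv =>
          obtain ⟨s, rfl⟩ := hv
          exact Submodule.subset_span ⟨w • s, Scheme.Modules.Hom.app_smul i w s⟩
        | zero =>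
          have h0 : a.app W w • (0 : Γ(M, a ⁻¹ᵁ W)) = 0 := smul_zero (A := Γ(M, a ⁻¹ᵁ W)) _
          exact h0.symm ▸ S.zero_mem
        | add v v' _ _ h h' =>
          exact (smul_add (a.app W w : Γ(X, a ⁻¹ᵁ W)) (show Γ(M, a ⁻¹ᵁ W) from v) v').symm ▸ S.add_mem h h'
        | smul c v _ h =>
          exact (smul_comm (a.app W w : Γ(X, a ⁻¹ᵁ W)) (act ρ (a ⁻¹ᵁ W) c) (show Γ(M, a ⁻¹ᵁ W) from v)).symm ▸
            S.smul_mem c h
    | zero => exact fun v _ => (zero_smul Γ(X, a ⁻¹ᵁ W) (show Γ(M, a ⁻¹ᵁ W) from v)).symm ▸ S.zero_mem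
    | one => exact fun v hv => (one_smul Γ(X, a ⁻¹ᵁ W) (show Γ(M, a ⁻¹ᵁ W) from v)).symm ▸ hv
    | add x y _ _ hx hy =>
      exact fun v hv => (add_smul x y (show Γ(M, a ⁻¹ᵁ W) from v)).symm ▸ S.add_mem (hx v hv) (hy v hv)
    | neg x _ hx => exact fun v hv => (neg_smul x (show Γ(M, a ⁻¹ᵁ W) from v)).symm ▸ S.neg_mem (hx v hv)
    | mul x y _ _ hx hy => exact fun v hv => (mul_smul x y (show Γ(M, a ⁻¹ᵁ W) from v)).symm ▸ hx _ (hy v hv)
  have hz : (show Γ(M, a ⁻¹ᵁ W) from z) ∈ Submodule.span Γ(X, a ⁻¹ᵁ W)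
      (Set.range fun s : Γ(G₀, W) => (show Γ(M, a ⁻¹ᵁ W) from i.app W s)) := hi ▸ Submodule.mem_top
  exact Submodule.span_induction (R := Γ(X, a ⁻¹ᵁ W)) (M := Γ(M, a ⁻¹ᵁ W))
    (p := fun v _ => (show Sec ρ M (a ⁻¹ᵁ W) from v) ∈ S)
    (fun v hv => Submodule.subset_span hv) S.zero_mem (fun v v' _ _ h h' => S.add_mem h h')
    (fun r v _ h => hstab r v h) hz

set_option maxHeartbeats 800000 in
/-- The top cohomology of a finite type quasi-coherent module is finite. -/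
theorem finite_HH_top {A : Type u} [CommRing A] {X : Scheme.{u}} (f : X ⟶ Spec (CommRingCat.of A)) [IsProper f]
    {d : ℕ} (hd : ∀ y, topologicalKrullDim ↥(f.fiber y) ≤ d) (M : X.Modules) (hM : Coh.IsCoh M) :
    letI : Module A (Coh.HH X M d) := Module.compHom _ (Coh.toGlobal f)
    Module.Finite A (Coh.HH X M d) := by
  letI : Module A (Coh.HH X M d) := Module.compHom _ (Coh.toGlobal f)
  classical
  obtain ⟨A₀, hA₀, X₀, f₀, a, hf₀, ha, hw, hfib, hgen⟩ := exists_global_model f hd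
  haveI : IsNoetherianRing A₀ := by
    haveI : Algebra.FiniteType ℤ A₀ := A₀.fg_iff_finiteType.mp hA₀
    exact Algebra.FiniteType.isNoetherianRing ℤ A₀
  haveI : IsNoetherianRing (CommRingCat.of ↥A₀) := ‹IsNoetherianRing A₀›
  haveI : CompactSpace X₀ := QuasiCompact.compactSpace_of_compactSpace f₀
  haveI : X₀.IsSeparated := ⟨by rw [← terminal.comp_from f₀]; infer_instance⟩
  haveI : Coh.IsQCoh M := hM.1
  haveI : Coh.IsQCoh ((Coh.push a).obj M) := Groth.L16.QcqsPush.isQCoh_push M a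
  obtain ⟨t, U, hcov, haff⟩ := exists_affine_cover (X := X₀)
  haveI := finite_idx (ι := ULift.{u} (Fin t)) (d : ℤ)
  haveI : Fintype (Idx (ULift.{u} (Fin t)) (d : ℤ)) := Fintype.ofFinite _
  have hWaff : ∀ b : Idx (ULift.{u} (Fin t)) (d : ℤ), IsAffineOpen (opn U b.1) := isAffineOpen_opn U haff
  have hfg : ∀ b : Idx (ULift.{u} (Fin t)) (d : ℤ), Module.Finite Γ(X, a ⁻¹ᵁ opn U b.1) Γ(M, a ⁻¹ᵁ opn U b.1) :=
    fun b => Groth.L20.ModStalk.finite_sections M hM ((hWaff b).preimage a)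
  choose n g hg using fun b => (hfg b).exists_fin
  obtain ⟨G₀, i, hi, hG₀, hmem⟩ := Groth.L17.Approx.exists_submodule_finset ((Coh.push a).obj M)
    (fun b : Idx (ULift.{u} (Fin t)) (d : ℤ) => opn U b.1) (fun b => (hWaff b).isCompact)
    (fun b => ULift.{u} (Fin (n b))) (fun b q => (show Γ((Coh.push a).obj M, opn U b.1) from g b q.down)) Finset.univ
  haveI : Coh.IsQCoh G₀ := hG₀.1
  let ρ := Coh.toGlobal f
  let ρ₀ := Coh.toGlobal f₀
  have hspan : ∀ (b : Idx (ULift.{u} (Fin t)) (d : ℤ)) (z : Sec ρ M (a ⁻¹ᵁ opn U b.1)),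
      z ∈ Submodule.span A (Set.range fun s : Γ(G₀, opn U b.1) => (show Sec ρ M _ from i.app (opn U b.1) s)) :=
    fun b z => mem_span_of_generators a ρ _ (hgen _ (hWaff b)) i (top_unique ((hg b).ge.trans (Submodule.span_mono (by
      rintro _ ⟨q, rfl⟩
      obtain ⟨s, hs⟩ := hmem b (Finset.mem_univ b) ⟨q⟩
      exact ⟨s, hs⟩)))) z
  -- the finitely many generators
  letI : X₀.Over (Spec (CommRingCat.of ↥A₀)) := ⟨f₀⟩
  haveI : IsProper (X₀ ↘ Spec (CommRingCat.of ↥A₀)) := hf₀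
  obtain ⟨e₀⟩ := exists_homology_equiv ρ₀ G₀ U hcov haff d
  haveI := Groth.L16.ProperFinite.finite_HH (↥A₀) hG₀ d
  haveI : Module.Finite A₀ ((K ρ₀ G₀ U).homology (d : ℤ)) := Module.Finite.equiv e₀.symm
  obtain ⟨m, h, hh⟩ := Module.Finite.exists_fin (R := A₀) (M := (K ρ₀ G₀ U).homology (d : ℤ))
  choose z hz using fun l => Groth.L28.HomElt.homologyπ_surjective (K ρ₀ G₀ U) (d : ℤ) (h l)
  -- the cover of `X`
  have hcov' : ⨆ j, pre a U j = ⊤ := by
    rw [← Scheme.Hom.preimage_iSup, hcov]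
    exact Scheme.Hom.preimage_top a
  have haff' : ∀ (k : ℕ) (b : Fin (k + 1) → ULift.{u} (Fin t)), IsAffineOpen (⨅ j, pre a U (b j)) := fun k b => by
    have e : ⨅ j, pre a U (b j) = a ⁻¹ᵁ ⨅ j, U (b j) := by
      ext x
      show x ∈ (↑(⨅ j, pre a U (b j)) : Set X) ↔ a x ∈ (↑(⨅ j, U (b j)) : Set X₀)
      simp [pre, Opens.coe_iInf]
    rw [e]
    exact (haff k b).preimage a
  obtain ⟨e⟩ := exists_homology_equiv ρ M (pre a U) hcov' haff' d
  haveI : Module.Finite A ((K ρ M (pre a U)).homology (d : ℤ)) := by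
    have hnext : (ComplexShape.up ℤ).next (d : ℤ) = (d : ℤ) + 1 := CochainComplex.next _ _
    have hprev : (ComplexShape.up ℤ).prev (d : ℤ) = (d : ℤ) - 1 := CochainComplex.prev _ _
    have hw0 : ∀ l, dL ρ₀ G₀ U (d : ℤ) ((K ρ₀ G₀ U).iCycles (d : ℤ) (z l)) = 0 := fun l =>
      (K_d ρ₀ G₀ U _ _).symm.trans (Groth.L28.HomElt.d_iCycles _ _ _)
    choose Z hZ using fun l => Groth.L28.HomElt.exists_cycle (K := K ρ M (pre a U)) hnext
      (T a U ρ₀ ρ i ((K ρ₀ G₀ U).iCycles (d : ℤ) (z l)))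
      (((K_d ρ M (pre a U) _ _).trans (dL_T a U ρ₀ ρ i (Int.natCast_nonneg d) _)).trans
        ((congrArg (T a U ρ₀ ρ i) (hw0 l)).trans (T_zero a U ρ₀ ρ i)))
    let Spn := Submodule.span A (Set.range fun l => (K ρ M (pre a U)).homologyπ (d : ℤ) (Z l))
    refine Module.finite_def.2 ((show Spn = ⊤ from top_unique fun hcl _ => ?_) ▸ Submodule.fg_span (Set.finite_range _))
    obtain ⟨cyc, rfl⟩ := Groth.L28.HomElt.homologyπ_surjective (K ρ M (pre a U)) (d : ℤ) hcl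
    let x : C ρ M (pre a U) (d : ℤ) := (K ρ M (pre a U)).iCycles (d : ℤ) cyc
    obtain ⟨κ, _, c, w, hw', hx⟩ := exists_combination a U ρ₀ ρ hcov haff i hspan
      (fun N hN => haveI := hN; subsingleton_HH_of_fibre_dim_le f₀ hfib N (Nat.lt_succ_self d)) x
      ((K_d ρ M (pre a U) _ _).symm.trans (Groth.L28.HomElt.d_iCycles _ _ _))
    choose wc hwc using fun k => Groth.L28.HomElt.exists_cycle (K := K ρ₀ G₀ U) hnext (w k)
      ((K_d ρ₀ G₀ U _ _).trans (hw' k))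
    have hr : ∀ k, ∃ r : Fin m → A₀, ∑ l, r l • h l = (K ρ₀ G₀ U).homologyπ (d : ℤ) (wc k) := fun k =>
      (Submodule.mem_span_range_iff_exists_fun _).1 (hh ▸ Submodule.mem_top)
    choose r hr using hr
    have hu : ∀ k, ∃ u, (K ρ₀ G₀ U).d ((d : ℤ) - 1) (d : ℤ) u =
        (K ρ₀ G₀ U).iCycles (d : ℤ) (wc k - ∑ l, r k l • z l) := fun k =>
      (Groth.L28.HomElt.π_eq_zero_iff hprev _).1 (by
        rw [map_sub, map_sum, sub_eq_zero, ← hr]
        exact Finset.sum_congr rfl fun l _ => by rw [map_smul, hz])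
    choose v hv using hu
    let zC : Fin m → C ρ₀ G₀ U (d : ℤ) := fun l => (K ρ₀ G₀ U).iCycles (d : ℤ) (z l)
    let dv : κ → C ρ₀ G₀ U (d : ℤ) := fun k => (K ρ₀ G₀ U).d ((d : ℤ) - 1) (d : ℤ) (v k)
    have h1 : ∀ k, w k = dv k + ∑ l, r k l • zC l := fun k => by
      have h := hv k
      rw [map_sub, map_sum, hwc, eq_sub_iff_add_eq] at h
      simp only [map_smul] at h
      exact h.symm
    have h2 : ∀ k, T a U ρ₀ ρ i (w k) = T a U ρ₀ ρ i (dv k) +
        ∑ l, algebraMap A₀ A (r k l) • T a U ρ₀ ρ i (zC l) := fun k => by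
      rw [h1 k, T_add, T_sum]
      exact congrArg _ (Finset.sum_congr rfl fun l _ =>
        T_smul a U ρ₀ ρ (fun r => compat_of_w (algebraMap A₀ A) f f₀ a hw r) i _ _)
    have hd' : ∀ k, ∃ u, (K ρ M (pre a U)).d ((d : ℤ) - 1) (d : ℤ) u = T a U ρ₀ ρ i (dv k) := by
      intro k
      by_cases hd0 : (0 : ℤ) ≤ (d : ℤ) - 1
      · refine ⟨T a U ρ₀ ρ i (v k), ?_⟩
        have key' : ∀ (p : ℤ) (hq : (d : ℤ) - 1 + 1 = p) (u : C ρ₀ G₀ U ((d : ℤ) - 1)),
            (K ρ M (pre a U)).d ((d : ℤ) - 1) p (T a U ρ₀ ρ i u) =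
              T a U ρ₀ ρ i ((K ρ₀ G₀ U).d ((d : ℤ) - 1) p u) := by
          intro p hq u
          subst hq
          rw [K_d ρ M (pre a U), K_d ρ₀ G₀ U]
          exact dL_T a U ρ₀ ρ i hd0 u
        exact key' _ (by ring) _
      · haveI := subsingleton_C ρ₀ G₀ U (i := (d : ℤ) - 1) (by omega)
        refine ⟨0, ?_⟩
        have h0 : dv k = 0 := (congrArg ((K ρ₀ G₀ U).d ((d : ℤ) - 1) (d : ℤ))
          (Subsingleton.elim (α := C ρ₀ G₀ U ((d : ℤ) - 1)) (v k) 0)).trans (map_zero _)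
        rw [map_zero, h0]
        exact (T_zero a U ρ₀ ρ i).symm
    choose v' hv' using hd'
    refine mem_span_of_decomp hprev Z cyc c (fun k l => algebraMap A₀ A (r k l)) (fun k => T a U ρ₀ ρ i (w k)) v'
      hx fun k => ?_
    rw [hv' k]
    refine (h2 k).trans (congrArg _ (Finset.sum_congr rfl fun l _ => ?_))
    rw [hZ l]
  exact Module.Finite.equiv e

end Groth.L19.VanishFibre
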