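import Groth.Agent.L20.Strat.Stratification
import Groth.Agent.L20.Strat.Construct
import Groth.Agent.L17.Dim.Strat
import Groth.Prelude.Def_Formal
import Groth.Agent.L16.Existence.FormalBasic

/-!
# Cohomology of modules supported on a closed subset of small dimension
-/

universe u

open CategoryTheory CategoryTheory.Limits AlgebraicGeometry TopologicalSpace Opposite

noncomputable section

namespace Groth.L19.VanishFibre

open Groth.L20.Strat (Supp0)
open Groth.L17 (HU hTopEquiv)

set_option linter.style.haveILetI false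
set_option backward.isDefEq.respectTransparency.types false
set_option backward.isDefEq.respectTransparency false

variable {X : Scheme.{u}}

theorem exists_strata [IsNoetherian X] [X.IsSeparated] {Z : Scheme.{u}} (i : Z ⟶ X) [IsClosedImmersion i]
    [IsNoetherian Z] {d : ℕ} (hd : topologicalKrullDim Z ≤ d) :
    ∃ (n : ℕ) (s : X → Fin (n + 1)), d ≤ n ∧ (∀ j, IsClosed {x : X | s x ≤ j}) ∧
      (∀ j : Fin (n + 1), ∃ (W : Scheme.{u}) (ι : W ⟶ X),
        IsImmersion ι ∧ IsAffine W ∧ IsAffineHom ι ∧ Set.range ι = {x : X | s x = j}) ∧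
      ∀ x, (s x).val < d + 1 ↔ x ∈ Set.range i := by
  classical
  obtain ⟨sZ, hsZ, hstZ⟩ := Groth.L17.Dim.hasAffineStratification_of_dim_le hd
  let O : X.Opens := Groth.L20.Strat.away i.isClosedEmbedding.isClosed_range
  haveI : CompactSpace O.toScheme := isCompact_iff_compactSpace.mp (NoetherianSpace.isCompact _)
  haveI : QuasiSeparatedSpace O.toScheme := QuasiSeparatedSpace.of_isOpenEmbedding O.ι.isOpenEmbedding
  obtain ⟨m, sO, hsO, hstO⟩ := Groth.L20.Strat.exists_hasAffineStratification (X := O.toScheme)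
  let v : X → ℕ := fun x => if h : x ∈ Set.range i then (sZ h.choose).val else d + 1 + (sO ⟨x, h⟩).val
  have hv : ∀ x, v x < d + 1 + m + 1 := fun x => by
    by_cases h : x ∈ Set.range i
    · simp only [v, dif_pos h]; have := (sZ h.choose).isLt; omega
    · simp only [v, dif_neg h]; have := (sO ⟨x, h⟩).isLt; omega
  have hvi : ∀ z, v (i z) = (sZ z).val := fun z => by
    have h : i z ∈ Set.range i := ⟨z, rfl⟩
    simp only [v, dif_pos h]
    rw [i.isClosedEmbedding.injective h.choose_spec]
  have hvo : ∀ o : O.toScheme, v (O.ι o) = d + 1 + (sO o).val := fun o => by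
    have h : O.ι o ∉ Set.range i := o.2
    simp only [v, dif_neg h]
    rfl
  have hvlt : ∀ x, v x < d + 1 ↔ x ∈ Set.range i := fun x => by
    by_cases h : x ∈ Set.range i
    · simp only [v, dif_pos h, h, iff_true]; exact (sZ h.choose).isLt
    · simp only [v, dif_neg h, h, iff_false]; omega
  refine ⟨d + 1 + m, fun x => ⟨v x, hv x⟩, by omega, fun j => ?_, fun j => ?_, hvlt⟩
  · rcases Nat.lt_or_ge j.val (d + 1) with hj | hj
    · have e : {x : X | (⟨v x, hv x⟩ : Fin (d + 1 + m + 1)) ≤ j} = i '' {z | sZ z ≤ ⟨j.val, hj⟩} := by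
        ext x
        refine ⟨fun hx => ?_, ?_⟩
        · have hx' : v x ≤ j.val := hx
          obtain ⟨z, rfl⟩ := (hvlt x).1 (by omega)
          exact ⟨z, show (sZ z).val ≤ j.val by rw [← hvi]; exact hx', rfl⟩
        · rintro ⟨z, hz, rfl⟩
          show v (i z) ≤ j.val
          rw [hvi]; exact hz
      rw [e]
      exact i.isClosedEmbedding.isClosedMap _ (hsZ _)
    · have hjm : j.val - (d + 1) < m + 1 := by have := j.isLt; omega
      have e : {x : X | (⟨v x, hv x⟩ : Fin (d + 1 + m + 1)) ≤ j} =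
          (O.ι '' {o | sO o ≤ ⟨j.val - (d + 1), hjm⟩}ᶜ)ᶜ := by
        ext x
        show v x ≤ j.val ↔ x ∉ O.ι '' _
        by_cases hx : x ∈ Set.range i
        · refine iff_of_true (le_trans ((hvlt x).2 hx).le hj) ?_
          rintro ⟨o, -, rfl⟩
          exact o.2 hx
        · obtain ⟨o, rfl⟩ : x ∈ Set.range O.ι := by rw [Scheme.Opens.range_ι]; exact hx
          rw [hvo, O.ι.isOpenEmbedding.injective.mem_set_image]
          show d + 1 + (sO o).val ≤ j.val ↔ ¬ ¬ (sO o).val ≤ j.val - (d + 1)
          omega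
      rw [e]
      exact (O.ι.isOpenEmbedding.isOpenMap _ (hsO _).isOpen_compl).isClosed_compl
  · rcases Nat.lt_or_ge j.val (d + 1) with hj | hj
    · obtain ⟨W, ι, hι, hW, hιa, hr⟩ := hstZ ⟨j.val, hj⟩
      refine ⟨W, ι ≫ i, inferInstance, hW, inferInstance, ?_⟩
      rw [Scheme.Hom.comp_base, TopCat.coe_comp, Set.range_comp, hr]
      ext x
      refine ⟨?_, fun hx => ?_⟩
      · rintro ⟨z, hz, rfl⟩
        exact Fin.ext (show v (i z) = j.val by rw [hvi]; exact congrArg Fin.val hz)
      · have hx' : v x = j.val := congrArg Fin.val hx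
        obtain ⟨z, rfl⟩ := (hvlt x).1 (by omega)
        exact ⟨z, Fin.ext (show (sZ z).val = j.val by rw [← hvi]; exact hx'), rfl⟩
    · obtain ⟨W, ι, hι, hW, hιa, hr⟩ := hstO ⟨j.val - (d + 1), by have := j.isLt; omega⟩
      haveI : IsAffineHom ((ι ≫ O.ι) ≫ terminal.from X) := by
        rw [terminal.comp_from]; infer_instance
      refine ⟨W, ι ≫ O.ι, inferInstance, hW, IsAffineHom.of_comp (ι ≫ O.ι) (terminal.from X), ?_⟩
      rw [Scheme.Hom.comp_base, TopCat.coe_comp, Set.range_comp, hr]
      ext x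
      refine ⟨?_, fun hx => ?_⟩
      · rintro ⟨o, ho, rfl⟩
        refine Fin.ext (show v (O.ι o) = j.val from ?_)
        have ho' : (sO o).val = j.val - (d + 1) := congrArg Fin.val ho
        rw [hvo]; omega
      · have hx' : v x = j.val := congrArg Fin.val hx
        obtain ⟨o, rfl⟩ : x ∈ Set.range O.ι := by
          rw [Scheme.Opens.range_ι]
          intro h
          have := (hvlt x).2 h
          omega
        rw [hvo] at hx'
        exact ⟨o, Fin.ext (show (sO o).val = j.val - (d + 1) by omega), rfl⟩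

/-- A quasi-coherent module supported on a closed subset of dimension `≤ d` has no cohomology above `d`. -/
theorem subsingleton_HH_of_supp0 [IsNoetherian X] [X.IsSeparated] {Z : Scheme.{u}} (i : Z ⟶ X)
    [IsClosedImmersion i] [IsNoetherian Z] {d : ℕ} (hd : topologicalKrullDim Z ≤ d) (F : X.Modules)
    [Coh.IsQCoh F] (hF : Supp0 F (Set.range i)) {p : ℕ} (hp : d < p) : Subsingleton (Coh.HH X F p) := by
  obtain ⟨n, s, hdn, hs, hst, hlt⟩ := exists_strata i hd
  obtain ⟨q, rfl⟩ : ∃ q, p = q + 1 := ⟨p - 1, by omega⟩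
  refine subsingleton_of_forall_eq 0 fun x => ?_
  apply (hTopEquiv (X := X.toTopCat) (Coh.toAb F) (q + 1)).injective
  refine (Groth.L20.Strat.hu_eq_zero_of_strata s hs hst (d + 1) (by omega) F ?_ q (by omega) _).trans
    (map_zero _).symm
  intro U hU t
  exact hF U (Set.disjoint_left.2 fun y hy hyT => Set.disjoint_left.1 hU hy ((hlt y).2 hyT)) t

/-- `M/IⁿM` is supported on the zero locus of `I`. -/
theorem supp0_modPow {A : Type u} [CommRing A] [X.Over (Spec (CommRingCat.of A))] (I : Ideal A) (n : ℕ)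
    (F : X.Modules) :
    Supp0 (Formal.modPow I n F) ((X ↘ Spec (CommRingCat.of A)) ⁻¹' (PrimeSpectrum.zeroLocus (I : Set A))) := by
  intro U hU s
  have hx : ∀ x : U, ∃ (V : X.Opens) (hV : V ≤ U), x.1 ∈ V ∧
      Groth.L18.Frame.rs (Formal.modPow I n F) hV s = 0 := by
    intro x
    obtain ⟨a, ha, hax⟩ := Set.not_subset.1 (Set.disjoint_left.1 hU x.2)
    let r : Coh.Γtop X := Coh.toGlobal (X ↘ Spec (CommRingCat.of A)) a
    refine ⟨U ⊓ X.basicOpen r, inf_le_left, ⟨x.2, ?_⟩, ?_⟩
    · show x.1 ∈ X.basicOpen ((X ↘ Spec (CommRingCat.of A)).appTop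
        ((Scheme.ΓSpecIso (CommRingCat.of A)).inv a))
      rw [← Scheme.preimage_basicOpen_top, basicOpen_eq_of_affine', Iso.inv_hom_id_apply]
      exact hax
    · let W : X.Opens := U ⊓ X.basicOpen r
      have hu : IsUnit (Coh.resTop X (op W) r) := by
        have h := (RingedSpace.isUnit_res_basicOpen X.toLocallyRingedSpace.toRingedSpace r).map
          (X.presheaf.map (homOfLE (show W ≤ X.basicOpen r from inf_le_right)).op).hom
        rw [← RingHom.comp_apply, ← CommRingCat.hom_comp, ← X.presheaf.map_comp] at h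
        exact h
      let t : (Formal.modPow I n F).val.obj (op W) :=
        Groth.L18.Frame.rs (Formal.modPow I n F) (show W ≤ U from inf_le_left) s
      have h0 : Coh.resTop X (op W) (Coh.toGlobal (X ↘ Spec (CommRingCat.of A)) (a ^ n)) • t = 0 :=
        ConcreteCategory.congr_hom (congrArg (fun φ => Scheme.Modules.Hom.app φ W)
          (Groth.L16.Existence.smulMod_modPow_eq_zero I F (Ideal.pow_mem_pow ha n))) t
      rw [map_pow, map_pow] at h0
      obtain ⟨w, hw⟩ := (hu.pow n).exists_left_inv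
      show t = 0
      calc t = ((w * Coh.resTop X (op W) r ^ n : X.ringCatSheaf.obj.obj (op W))) • t := by
            refine Eq.trans ?_ (congrArg (fun c : X.ringCatSheaf.obj.obj (op W) => c • t) hw.symm)
            exact (one_smul _ t).symm
        _ = (w : X.ringCatSheaf.obj.obj (op W)) • (Coh.resTop X (op W) r ^ n) • t := mul_smul _ _ t
        _ = 0 := (congrArg (fun z => (w : X.ringCatSheaf.obj.obj (op W)) • z) h0).trans (smul_zero _)
  choose V hV hxV hV0 using hx
  refine Groth.L20.Strat.eq_of_rs_eq V hV (fun x hx => Opens.mem_iSup.2 ⟨⟨x, hx⟩, hxV ⟨x, hx⟩⟩) fun x => ?_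
  exact (hV0 x).trans (map_zero _).symm

end Groth.L19.VanishFibre
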