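import Groth.Agent.L19.VanishFibre.QCoh
import Groth.Agent.L00.AlgQCoh
import Groth.Agent.L29.DCoh.QCohLocal
import Groth.Agent.L04.FinLocFreeHom
import Groth.Agent.L16.QcqsPush
import Groth.Agent.L17.BC.Change
import Groth.Agent.L17.BC.Cochains
import Groth.Prelude.Def_Formal

/-!
# Generators of the top degree Čech cohomology along an affine morphism
-/

universe u

open CategoryTheory CategoryTheory.Limits AlgebraicGeometry TopologicalSpace Opposite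

noncomputable section

namespace Groth.L19.VanishFibre

open Groth.L17.BC
open Groth.L18.Frame (rs ro rs_rs rs_smul ro_ro)

set_option linter.style.haveILetI false
set_option backward.isDefEq.respectTransparency.types false
set_option backward.isDefEq.respectTransparency false

variable {X X₀ : Scheme.{u}} (a : X ⟶ X₀) {ι : Type u} (U : ι → X₀.Opens)

/-- The cover pulled back. -/
abbrev pre : ι → X.Opens := fun i => a ⁻¹ᵁ U i

theorem pre_opn (l : List ι) : a ⁻¹ᵁ opn U l = opn (pre a U) l := by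
  ext x
  show a x ∈ (opn U l : Set X₀) ↔ x ∈ (opn (pre a U) l : Set X)
  simp [opn, pre, Opens.coe_iInf]

variable {R A : Type u} [CommRing R] [CommRing A] (ρ₀ : R →+* Coh.Γtop X₀) (ρ : A →+* Coh.Γtop X)
  {M : X.Modules} {G G' : X₀.Modules}

/-- Cochains along a map to a direct image. -/
def T (i : G ⟶ (Coh.push a).obj M) {n : ℤ} (y : C ρ₀ G U n) : C ρ M (pre a U) n :=
  fun b => rs M (pre_opn a U b.1).ge (i.app (opn U b.1) (y b))

theorem dL_T (i : G ⟶ (Coh.push a).obj M) {n : ℤ} (hn : 0 ≤ n) (y : C ρ₀ G U n) :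
    dL ρ M (pre a U) n (T a U ρ₀ ρ i y) = T a U ρ₀ ρ i (dL ρ₀ G U n y) := by
  funext b
  rw [dL_apply ρ M (pre a U) hn]
  show _ = rs M _ (i.app _ _)
  rw [dL_apply ρ₀ G U hn, map_sum]
  refine Eq.trans ?_ (map_sum (M.presheaf.map (homOfLE (pre_opn a U b.1).ge).op).hom _ _).symm
  refine Finset.sum_congr rfl fun k _ => ?_
  refine Eq.trans ?_ (congrArg (rs M (pre_opn a U b.1).ge) (map_zsmul (i.app (opn U b.1)).hom _ _).symm)
  refine Eq.trans ?_ (map_zsmul (M.presheaf.map (homOfLE (pre_opn a U b.1).ge).op).hom _ _).symm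
  refine congrArg (fun z => ((-1 : ℤ) ^ k.1) • z) ?_
  show rs M _ (rs M _ (i.app _ _)) = rs M _ (i.app _ (rs G _ _))
  rw [Groth.L16.EpiFrames.app_rs]
  exact (rs_rs M _ _ _).trans (rs_rs M (Scheme.Hom.preimage_mono a (opn_le_erase U b.1 k)) _ _).symm

theorem T_add (i : G ⟶ (Coh.push a).obj M) {n : ℤ} (y y' : C ρ₀ G U n) :
    T a U ρ₀ ρ i (y + y') = T a U ρ₀ ρ i y + T a U ρ₀ ρ i y' := funext fun b =>
  (congrArg (rs M (pre_opn a U b.1).ge) (map_add (i.app (opn U b.1)).hom (y b) (y' b))).trans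
    (map_add (M.presheaf.map (homOfLE (pre_opn a U b.1).ge).op).hom _ _)

theorem T_zero (i : G ⟶ (Coh.push a).obj M) {n : ℤ} : T a U ρ₀ ρ i (0 : C ρ₀ G U n) = 0 :=
  left_eq_add.mp ((congrArg (T a U ρ₀ ρ i) (add_zero 0).symm).trans (T_add a U ρ₀ ρ i 0 0))

theorem T_sum (i : G ⟶ (Coh.push a).obj M) {n : ℤ} {κ : Type*} (s : Finset κ) (y : κ → C ρ₀ G U n) :
    T a U ρ₀ ρ i (∑ k ∈ s, y k) = ∑ k ∈ s, T a U ρ₀ ρ i (y k) :=
  map_sum (AddMonoidHom.mk' (T a U ρ₀ ρ i) (T_add a U ρ₀ ρ i)) y s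

theorem T_cMap (i : G ⟶ (Coh.push a).obj M) (h : G' ⟶ G) {n : ℤ} (y : C ρ₀ G' U n) :
    T a U ρ₀ ρ i (cMap U ρ₀ h y) = T a U ρ₀ ρ (h ≫ i) y := rfl

theorem T_twist (i : G ⟶ (Coh.push a).obj M) (c : A) {n : ℤ} (y : C ρ₀ G U n) :
    T a U ρ₀ ρ (i ≫ (Coh.push a).map (Formal.smulModΓ M (ρ c))) y = c • T a U ρ₀ ρ i y := funext fun b => by
  show rs M (pre_opn a U b.1).ge
      ((ro (le_top : a ⁻¹ᵁ opn U b.1 ≤ ⊤) (ρ c)) • (show Γ(M, a ⁻¹ᵁ opn U b.1) from i.app (opn U b.1) (y b))) =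
    ro (le_top : opn (pre a U) b.1 ≤ ⊤) (ρ c) • rs M (pre_opn a U b.1).ge (i.app (opn U b.1) (y b))
  rw [rs_smul]
  congr 1
  exact ro_ro le_top _ (ρ c)

variable {φ : R →+* A} (hc : ∀ r, a.appTop (ρ₀ r) = ρ (φ r))

include hc in
theorem T_smul (i : G ⟶ (Coh.push a).obj M) (r : R) {n : ℤ} (y : C ρ₀ G U n) :
    T a U ρ₀ ρ i (r • y) = φ r • T a U ρ₀ ρ i y := funext fun b => by
  show rs M (pre_opn a U b.1).ge (i.app (opn U b.1) (ro (le_top : opn U b.1 ≤ ⊤) (ρ₀ r) • (show Γ(G, _) from y b))) =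
    ro (le_top : opn (pre a U) b.1 ≤ ⊤) (ρ (φ r)) • rs M (pre_opn a U b.1).ge (i.app (opn U b.1) (y b))
  rw [Scheme.Modules.Hom.app_smul]
  show rs M _ (a.app (opn U b.1) (ro (le_top : opn U b.1 ≤ ⊤) (ρ₀ r)) •
    (show Γ(M, a ⁻¹ᵁ opn U b.1) from i.app (opn U b.1) (y b))) = _
  rw [rs_smul]
  congr 1
  have h := congr($(a.naturality (homOfLE (le_top : opn U b.1 ≤ ⊤)).op) (ρ₀ r))
  change a.app (opn U b.1) (ro le_top (ρ₀ r)) = ro le_top (a.appTop (ρ₀ r)) at h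
  rw [h, hc r]
  exact ro_ro le_top _ (ρ (φ r))

theorem dL_congr {B : Type u} [CommRing B] (ρ' : B →+* Coh.Γtop X₀) {n : ℤ} (hn : 0 ≤ n) (y : C ρ₀ G U n) :
    dL ρ' G U n y = dL ρ₀ G U n y := by
  funext b
  rw [dL_apply ρ' G U hn, dL_apply ρ₀ G U hn]
  rfl

set_option maxHeartbeats 800000 in
/-- A cochain decomposed along generators. -/
theorem exists_decomposition [Finite ι] {G₀ : X₀.Modules} (i : G₀ ⟶ (Coh.push a).obj M) {n : ℤ}
    (hspan : ∀ (b : Idx ι n) (z : Sec ρ M (a ⁻¹ᵁ opn U b.1)),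
      z ∈ Submodule.span A (Set.range fun s : Γ(G₀, opn U b.1) => (show Sec ρ M _ from i.app (opn U b.1) s)))
    (x : C ρ M (pre a U) n) :
    ∃ (κ : Type u) (_ : Fintype κ) (c : κ → A) (y : κ → C ρ₀ G₀ U n), x = ∑ k, c k • T a U ρ₀ ρ i (y k) := by
  classical
  haveI := finite_idx (ι := ι) n
  haveI : Fintype (Idx ι n) := Fintype.ofFinite _
  have hmem : ∀ b : Idx ι n, ∃ c : Γ(G₀, opn U b.1) →₀ A,
      (c.sum fun s t => t • (show Sec ρ M (a ⁻¹ᵁ opn U b.1) from i.app (opn U b.1) s)) =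
        rs M (pre_opn a U b.1).le (x b) :=
    fun b => Finsupp.mem_span_range_iff_exists_finsupp.1 (hspan b _)
  choose c hc' using hmem
  let e : (Σ b : Idx ι n, ↥(c b).support) → C ρ₀ G₀ U n := fun k => Pi.single k.1 (k.2.1 : Sec ρ₀ G₀ _)
  refine ⟨Σ b : Idx ι n, ↥(c b).support, inferInstance, fun k => c k.1 k.2.1, e, ?_⟩
  funext b
  rw [Finset.sum_apply, Fintype.sum_sigma,
    Finset.sum_eq_single b (fun b' _ hb => Finset.sum_eq_zero fun k _ => ?_) (by simp)]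
  · have h := congrArg (resL ρ M (pre_opn a U b.1).ge) (hc' b)
    rw [Finsupp.sum, map_sum] at h
    refine ((h.trans ((rs_rs M _ _ _).trans (Groth.L18.Frame.rs_self M _ _))).symm.trans ?_)
    rw [← Finset.sum_coe_sort]
    refine Finset.sum_congr rfl fun k _ => ?_
    rw [map_smul, Pi.smul_apply]
    refine congrArg (fun z : Sec ρ M (opn (pre a U) b.1) => c b k.1 • z) ?_
    show _ = rs M _ (i.app _ (e ⟨b, k⟩ b))
    rw [show e ⟨b, k⟩ b = (k.1 : Sec ρ₀ G₀ _) from Pi.single_eq_same _ _]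
    rfl
  · rw [Pi.smul_apply]
    have h0 : e ⟨b', k⟩ b = 0 := Pi.single_eq_of_ne (Ne.symm hb) _
    refine Eq.trans (congrArg (fun z : Sec ρ M (opn (pre a U) b.1) => c b' k.1 • z) ?_) (smul_zero _)
    show rs M _ (i.app _ (e ⟨b', k⟩ b)) = 0
    rw [h0]
    exact (congrArg (rs M (pre_opn a U b.1).ge) (map_zero (i.app (opn U b.1)).hom)).trans
      (map_zero (M.presheaf.map (homOfLE (pre_opn a U b.1).ge).op).hom)

/-- `T θ` is injective on values. -/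
theorem app_eq_zero_of_T {Q : X₀.Modules} (θ : Q ⟶ (Coh.push a).obj M) {n : ℤ} (z : C ρ₀ Q U n)
    (h : T a U ρ₀ ρ θ z = 0) (b : Idx ι n) : θ.app (opn U b.1) (z b) = 0 := by
  let w : Γ(M, a ⁻¹ᵁ opn U b.1) := θ.app (opn U b.1) (z b)
  have h' : rs M (pre_opn a U b.1).ge w = 0 := congrFun h b
  have h'' : rs M (pre_opn a U b.1).le (rs M (pre_opn a U b.1).ge w) = w :=
    (rs_rs M _ _ w).trans (Groth.L18.Frame.rs_self M _ w)
  rw [h'] at h''
  exact h''.symm.trans (map_zero (M.presheaf.map (homOfLE (pre_opn a U b.1).le).op).hom)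

/-- A cochain with image a cocycle can be corrected to a cocycle. -/
theorem exists_cocycle_lift [Finite ι] (hcov : ⨆ i, U i = ⊤)
    (haff : ∀ (n : ℕ) (b : Fin (n + 1) → ι), IsAffineOpen (⨅ k, U (b k)))
    [Coh.IsQCoh ((Coh.push a).obj M)] {Q : X₀.Modules} [Coh.IsQCoh Q] (θ : Q ⟶ (Coh.push a).obj M) {d : ℕ}
    (hvan : ∀ N : X₀.Modules, Coh.IsQCoh N → Subsingleton (Coh.HH X₀ N (d + 1)))
    (y : C ρ₀ Q U (d : ℤ)) (x : C ρ M (pre a U) (d : ℤ)) (hy : T a U ρ₀ ρ θ y = x)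
    (hx : dL ρ M (pre a U) (d : ℤ) x = 0) :
    ∃ y' : C ρ₀ Q U (d : ℤ), dL ρ₀ Q U (d : ℤ) y' = 0 ∧ T a U ρ₀ ρ θ y' = x := by
  -- correct to a cocycle
  let z := dL ρ₀ Q U (d : ℤ) y
  have hTz : T a U ρ₀ ρ θ z = 0 :=
    (dL_T a U ρ₀ ρ θ (Int.natCast_nonneg d) y).symm.trans ((congrArg (dL ρ M (pre a U) (d : ℤ)) hy).trans hx)
  have hz : ∀ b : Idx ι ((d : ℤ) + 1), θ.app (opn U b.1) (z b) = 0 := fun b => app_eq_zero_of_T a U ρ₀ ρ θ z hTz b
  haveI : Coh.IsQCoh (kernel θ) := Groth.L20.Strat.isQCoh_kernel θ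
  have hzk : ∀ b : Idx ι ((d : ℤ) + 1), ∃ v : Γ(kernel θ, opn U b.1), (kernel.ι θ).app _ v = z b := by
    exact fun b => (Cochains.exact_left (S := ShortComplex.mk (kernel.ι θ) θ (kernel.condition _))
      (ShortComplex.exact_of_f_is_kernel _ (kernelIsKernel θ)) (opn U b.1)).2 (z b) (hz b)
  choose v hv using hzk
  have hvd : dL ρ₀ (kernel θ) U ((d : ℤ) + 1) v = 0 := funext fun b => by
    refine Groth.L20.Strat.app_injective_of_mono (kernel.ι θ) _ ?_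
    refine (congrFun (dL_cMap U ρ₀ (kernel.ι θ) (by omega) v).symm b).trans ?_
    rw [show cMap U ρ₀ (kernel.ι θ) v = z from funext hv, dL_dL]
    exact (map_zero _).symm
  obtain ⟨u', hu⟩ := (subsingleton_HH_succ_iff U (kernel θ) hcov haff d).1 (hvan _ inferInstance) v
    ((dL_congr U ρ₀ (zρ X₀) (by omega) v).trans hvd)
  rw [dL_congr U ρ₀ (zρ X₀) (Int.natCast_nonneg d)] at hu
  let y' : C ρ₀ Q U (d : ℤ) := y - cMap U ρ₀ (kernel.ι θ) u'
  have hy' : dL ρ₀ Q U (d : ℤ) y' = 0 := by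
    rw [map_sub, dL_cMap U ρ₀ (kernel.ι θ) (Int.natCast_nonneg d), hu]
    exact sub_eq_zero.2 (funext hv).symm
  have hT : T a U ρ₀ ρ θ y' = x := by
    have h : T a U ρ₀ ρ θ (cMap U ρ₀ (kernel.ι θ) u') = 0 := by
      rw [T_cMap, kernel.condition]
      exact funext fun b => map_zero (M.presheaf.map (homOfLE (pre_opn a U b.1).ge).op).hom
    have h2 := T_add a U ρ₀ ρ θ y' (cMap U ρ₀ (kernel.ι θ) u')
    rw [h, add_zero, show y' + cMap U ρ₀ (kernel.ι θ) u' = y from sub_add_cancel _ _, hy] at h2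
    exact h2.symm
  exact ⟨y', hy', hT⟩

set_option maxHeartbeats 800000 in
/-- Cocycles in the top degree are combinations of cocycles of a generating module. -/
theorem exists_combination [Finite ι] (hcov : ⨆ i, U i = ⊤)
    (haff : ∀ (n : ℕ) (b : Fin (n + 1) → ι), IsAffineOpen (⨅ k, U (b k))) [Coh.IsQCoh M] [IsAffineHom a]
    {G₀ : X₀.Modules} [Coh.IsQCoh G₀] (i : G₀ ⟶ (Coh.push a).obj M) {d : ℕ}
    (hspan : ∀ (b : Idx ι (d : ℤ)) (z : Sec ρ M (a ⁻¹ᵁ opn U b.1)),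
      z ∈ Submodule.span A (Set.range fun s : Γ(G₀, opn U b.1) => (show Sec ρ M _ from i.app (opn U b.1) s)))
    (hvan : ∀ N : X₀.Modules, Coh.IsQCoh N → Subsingleton (Coh.HH X₀ N (d + 1)))
    (x : C ρ M (pre a U) (d : ℤ)) (hx : dL ρ M (pre a U) (d : ℤ) x = 0) :
    ∃ (κ : Type u) (_ : Fintype κ) (c : κ → A) (w : κ → C ρ₀ G₀ U (d : ℤ)),
      (∀ k, dL ρ₀ G₀ U (d : ℤ) (w k) = 0) ∧ x = ∑ k, c k • T a U ρ₀ ρ i (w k) := by
  classical
  obtain ⟨κ, _, c, e, hdec⟩ := exists_decomposition a U ρ₀ ρ i hspan x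
  let ψ : κ → (G₀ ⟶ (Coh.push a).obj M) := fun k => i ≫ (Coh.push a).map (Formal.smulModΓ M (ρ (c k)))
  let Q := ⨁ fun _ : κ => G₀
  let θ : Q ⟶ (Coh.push a).obj M := biproduct.desc ψ
  haveI hQ : Coh.IsQCoh Q := Groth.L29.DC.isQCoh_of_iso' (biproduct.isoCoproduct _).symm
    (Groth.L00.AlgQCoh.isQCoh_sigma _ fun _ => inferInstance)
  haveI : Coh.IsQCoh ((Coh.push a).obj M) := Groth.L16.QcqsPush.isQCoh_push M a
  let y : C ρ₀ Q U (d : ℤ) := ∑ k, cMap U ρ₀ (biproduct.ι (fun _ : κ => G₀) k) (e k)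
  have hy : T a U ρ₀ ρ θ y = x := by
    rw [hdec, T_sum]
    refine Finset.sum_congr rfl fun k _ => ?_
    rw [T_cMap, biproduct.ι_desc]
    exact T_twist a U ρ₀ ρ i _ _
  obtain ⟨y', hy', hT⟩ := exists_cocycle_lift a U ρ₀ ρ hcov haff θ hvan y x hy hx
  refine ⟨κ, inferInstance, c, fun k => cMap U ρ₀ (biproduct.π _ k) y', fun k => ?_, ?_⟩
  · rw [dL_cMap U ρ₀ _ (Int.natCast_nonneg d), hy']
    exact funext fun b => map_zero ((biproduct.π (fun _ : κ => G₀) k).app _).hom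
  · rw [← hT]
    have hθ : θ = ∑ k, biproduct.π (fun _ : κ => G₀) k ≫ ψ k := by
      refine biproduct.hom_ext' _ _ fun j => ?_
      rw [biproduct.ι_desc, Preadditive.comp_sum,
        Finset.sum_eq_single j (fun k _ hk => by rw [biproduct.ι_π_ne_assoc _ (Ne.symm hk), zero_comp]) (by simp),
        biproduct.ι_π_self_assoc]
    conv_lhs => rw [hθ]
    funext b
    rw [Finset.sum_apply]
    show rs M _ ((∑ k, biproduct.π (fun _ : κ => G₀) k ≫ ψ k).app _ (y' b)) = _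
    rw [Groth.L04.FinLocFreeHom.sum_app]
    refine (map_sum (M.presheaf.map (homOfLE (pre_opn a U b.1).ge).op).hom _ _).trans ?_
    refine Finset.sum_congr rfl fun k _ => ?_
    exact congrFun (T_twist a U ρ₀ ρ i (c k) (cMap U ρ₀ (biproduct.π _ k) y')) b

end Groth.L19.VanishFibre
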