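import Groth.Agent.L19.VanishFibre.TopFinite
import Groth.Agent.L16.CohClosedPush
import Groth.Agent.L17.PushQCoh
import Groth.Agent.L17.BC.LocFree

/-!
# Sections of the top higher direct image
-/

universe u

open CategoryTheory CategoryTheory.Limits AlgebraicGeometry TopologicalSpace Opposite

noncomputable section

namespace Groth.L19.VanishFibre

open Groth.L17.BC

set_option linter.style.haveILetI false
set_option backward.isDefEq.respectTransparency.types false
set_option backward.isDefEq.respectTransparency false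

/-- The sections of `R^d f_*` on an affine open form a finite module. -/
theorem finite_sections_Rpush {X Y : Scheme.{u}} (f : X ⟶ Y) [IsProper f] (d : ℕ)
    (hd : ∀ y : Y, topologicalKrullDim ↥(f.fiber y) ≤ d) [HasInjectiveResolutions X.Modules] (M : X.Modules)
    (hM : Coh.IsCoh M) {V : Y.Opens} (hV : IsAffineOpen V) :
    Module.Finite Γ(Y, V) Γ((Coh.Rpush f d).obj M, V) := by
  haveI : Coh.IsQCoh M := hM.1
  haveI := Groth.L17.PushQCoh.isQCoh_Rpush f M d
  have hFV := isCoh_FV f (V := V) hM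
  haveI : Coh.IsQCoh (FV f (V := V) M) := hFV.1
  haveI := Groth.L17.PushQCoh.hasInjectiveResolutions (f ⁻¹ᵁ V : Scheme.{u})
  obtain ⟨i⟩ := Groth.L17.PushQCoh.nonempty_Rpush_restrict_iso f hV.fromSpec (f ⁻¹ᵁ V).ι (fV f hV)
    (by rw [hV.opensRange_fromSpec, Scheme.Opens.opensRange_ι]) (fV_fromSpec f hV) M d
  obtain ⟨N, eN, ⟨εN⟩⟩ := Classes.exists_chart ((Coh.Rpush f d).obj M) hV
  obtain ⟨e''⟩ := Groth.L17.ProperCoh.nonempty_Γ_Rpush_equiv (fV f hV) (FV f (V := V) M) d
  let j : tilde N ≅ (Coh.Rpush (fV f hV) d).obj (FV f (V := V) M) := eN.symm ≪≫ i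
  letI : Module Γ(Y, V) (Coh.HH (↑(f ⁻¹ᵁ V) : Scheme.{u}) (FV f (V := V) M) d) :=
    Module.compHom _ (Coh.toGlobal (fV f hV))
  let eM : Γ((Coh.Rpush f d).obj M, V) ≃ₗ[Γ(Y, V)] Coh.HH (↑(f ⁻¹ᵁ V) : Scheme.{u}) (FV f (V := V) M) d :=
    εN.symm.trans ((tilde.toTildeΓNatIso.app N ≪≫ (moduleSpecΓFunctor (R := Γ(Y, V))).mapIso j).toLinearEquiv.trans
      e''.symm)
  haveI := finite_HH_top (A := Γ(Y, V)) (fV f hV) (d := d)
    (fun y' => (dim_fiber_fV f hV y').le.trans (hd _)) (FV f (V := V) M) hFV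
  exact Module.Finite.equiv eM.symm

end Groth.L19.VanishFibre
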